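import Cfsg.Agent.Lib.LargeExtra.AutFi24.Model
import Cfsg.Agent.Lib.ThreeTransp.M24.Fixed
import Cfsg.Agent.Lib.ThreeTransp.M23.FarPair
import Cfsg.Agent.Lib.ThreeTransp.M23.Pair

/-!
In the presented Fi23 an automorphism of the centraliser of the first involution sends the common
neighbours with a far member to a conjugate of one of two sets, the second inside the first class of
the large subgroup.
-/

set_option autoImplicit false
set_option maxRecDepth 100000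
set_option linter.style.haveILetI false

noncomputable section

namespace Cfsg.Agent.LargeExtra.AutFi24.Arms

open Cfsg.Agent.ThreeTransp
open Cfsg.Agent.ThreeTransp.Factor (nb Hd Sd Dq mem_Hd)
open Cfsg.Agent.ThreeTransp.M23Fi23
open Cfsg.Agent.LargeExtra.AutFi24.Model
open Cfsg.Agent.CosetCert
open Cfsg.Agent.InvChar.Coset
open Cfsg.Agent.InvChar.Coset.Fi23G Cfsg.Agent.InvChar.Coset.Fi23Out
open Cfsg.Agent.InvChar.Coset.TreePerm (rd seqN nthT)
open Cfsg.Agent.GenA.T23.Pt (C0 pos pos_lt pos_fix)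
open Cfsg.Agent.GenA.Heptad (selfC)

/-- The neighbours also commuting with the chosen far member. -/
def R0 : Set GG := nb DD z ∩ nb DD (dd M23Fi23.C1)

/-- The first class next to the first involution. -/
def M0 : Set GG := T1 ∩ nb DD z

theorem far : ¬ Commute z (dd M23Fi23.C1) := far_pair

theorem R0_sub : R0 ⊆ nb DD z := Set.inter_subset_left

theorem M0_sub : M0 ⊆ nb DD z := Set.inter_subset_right

/-- The local map with its properties. -/
structure Loc (τ : ↥C0 →* Cfsg.Spor.Fi22) : Prop where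
  surj : Function.Surjective τ
  ker : ∀ c, τ c = 1 → c = 1 ∨ c = selfC z
  self : τ (selfC z) = 1
  gen : ∀ i, i < 9 → ∀ x : ↥C0, (x : GG) = Fi23G.data.gen (nthNat Fi23G.top i) → τ x = Fi22B.data.gen i
  lift : ∀ q ∈ Fi22Model.DD, ∃ x : ↥C0, (x : GG) ∈ nb DD z ∧ τ x = q

theorem exists_loc : ∃ τ : ↥C0 →* Cfsg.Spor.Fi22, Loc τ := by
  obtain ⟨τ, F, hs, hk, hg, hl⟩ := GenA.T23.Pt.frame
  refine ⟨τ, hs, hk, ?_, hg, hl⟩
  have hc : τ (selfC z) ∈ Subgroup.center Cfsg.Spor.Fi22 := Subgroup.mem_center_iff.2 fun q => by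
    obtain ⟨x, rfl⟩ := hs q
    rw [← map_mul, ← map_mul]
    refine congrArg τ (Subtype.ext ?_)
    exact Subgroup.mem_centralizer_singleton_iff.1 x.2
  rwa [F.h22.1, Subgroup.mem_bot] at hc

theorem mem_C0 {x : GG} : x ∈ C0 ↔ Commute z x := by
  rw [show C0 = Subgroup.centralizer ({z} : Set GG) from rfl, Subgroup.mem_centralizer_singleton_iff]
  exact ⟨fun h => h.symm, fun h => h.eq.symm⟩

theorem nb_C0 {x : GG} (hx : x ∈ nb DD z) : x ∈ C0 := mem_C0.2 hx.2.2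

theorem conj_nb_z {k y : GG} (hk : k ∈ C0) (hy : y ∈ nb DD z) : k * y * k⁻¹ ∈ nb DD z := by
  have h := Cover.conj_nb grp k hy
  rwa [M22.conj_eq_self_iff.2 (mem_C0.1 hk).symm] at h

theorem base : M23.Base DD := by
  haveI := FiUnit.finite_Fi
  haveI : Finite GG := finite_GG
  exact M24.base23 grp Model.prim type23

theorem rel : Factor.Rel 6 DD := by
  haveI : Finite GG := finite_GG
  exact (Factor.M23_core grp Model.prim.1 type23).2

variable {τ : ↥C0 →* Cfsg.Spor.Fi22} (L : Loc τ)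
include L

theorem inj {x y : GG} (hx : x ∈ nb DD z) (hy : y ∈ nb DD z)
    (h : τ ⟨x, nb_C0 hx⟩ = τ ⟨y, nb_C0 hy⟩) : x = y := by
  haveI : Finite GG := finite_GG
  rcases L.ker (⟨x, nb_C0 hx⟩⁻¹ * ⟨y, nb_C0 hy⟩) (by rw [map_mul, map_inv, h, inv_mul_cancel]) with
    e | e
  · exact inv_mul_eq_one.1 (congrArg Subtype.val e)
  · exfalso
    have e' : y = x * z := inv_mul_eq_iff_eq_mul.1 (congrArg Subtype.val e)
    exact M23.one_ne_two grp rel hy.1 hx.1 mem_conjugatesOf_self hx.2.1 hx.2.2.symm e'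

theorem mem_DD22 {x : GG} (hx : x ∈ nb DD z) : τ ⟨x, nb_C0 hx⟩ ∈ Fi22Model.DD := by
  haveI := FiUnit.finite_Fi
  haveI : Finite GG := finite_GG
  obtain ⟨y, hy, e⟩ := L.lift _ (Fi22Model.dd_mem FiOut.P0)
  obtain ⟨g, hgz, hgy⟩ := M23.pair_trans grp base Model.prim Fi23Out.center_GG
    (a := z) mem_conjugatesOf_self hy mem_conjugatesOf_self hx
  have hg : g ∈ C0 := mem_C0.2 (M22.conj_eq_self_iff.1 hgz).symm
  rw [show (⟨x, nb_C0 hx⟩ : ↥C0) = ⟨g, hg⟩ * y * ⟨g, hg⟩⁻¹ from Subtype.ext hgy.symm, map_mul,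
    map_mul, map_inv, e]
  exact Fi22Model.grp.2.1 _ _ (Fi22Model.dd_mem _)

theorem pos_R0 {i : ℕ} (hi : i ∈ pos) : Fi23G.data.gen (nthNat Fi23G.top i) ∈ R0 := by
  haveI := FiUnit.finite_Fi
  have hi9 := pos_lt i hi
  set y := Fi23G.data.gen (nthNat Fi23G.top i) with hy
  have hyC : y ∈ C0 := GenA.T23.Pt.C0_eq.ge (GenA.T23.Pt.gen_mem hi9)
  obtain ⟨x, hx, he⟩ := L.lift _ (GenA.T23.Pt.gen_DD hi9)
  have hk : τ (x⁻¹ * ⟨y, hyC⟩) = 1 := by
    rw [map_mul, map_inv, he, L.gen i hi9 ⟨y, hyC⟩ rfl, inv_mul_cancel]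
  have h1 : Commute (dd M23Fi23.C1) y := by
    refine (commute_dd_iff.2 ?_).symm
    have h1 := φ_point (w := [nthNat Fi23G.top i]) (by simpa using top_lt _ (nth_top hi9)) M23Fi23.C1
    rw [show el [nthNat Fi23G.top i] = y from one_mul _] at h1
    refine Fin.ext (h1.trans ?_)
    rw [C1_val]
    exact pos_fix i hi
  rcases L.ker _ hk with e | e
  · have hxy : (x : GG) = y := congrArg Subtype.val (inv_mul_eq_one.1 e)
    rw [hxy] at hx
    exact ⟨hx, hx.1, fun e' => far (e' ▸ hx.2.2), h1⟩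
  · exfalso
    rw [inv_mul_eq_iff_eq_mul] at e
    have hxy : y = (x : GG) * z := congrArg Subtype.val e
    have hyD : y ∈ DD := by
      rw [hy, gen_dd ((show ∀ i < 9, nthNat Fi23G.top i < 10 by decide) i hi9)]
      exact dd_mem _
    haveI : Finite GG := finite_GG
    exact M23.one_ne_two grp rel hyD hx.1 mem_conjugatesOf_self hx.2.1 hx.2.2.symm hxy

/-- The images of the common neighbours lie in a subgroup on eight generators. -/
theorem R0_image {r : GG} (hr : r ∈ R0) :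
    τ ⟨r, nb_C0 hr.1⟩ ∈ subg Fi22B.data.gen [0, 1, 2, 3, 4, 5, 7, 8] := by
  haveI := FiUnit.finite_Fi
  haveI : Finite GG := finite_GG
  obtain ⟨iso⟩ := GenA.T23.Pt.iso_second
  have hle : Subgroup.closure R0 ≤ C0 := (Subgroup.closure_le _).2 fun y hy => nb_C0 hy.1
  set f : ↥(Subgroup.closure R0) →* Cfsg.Spor.Fi22 := τ.comp (Subgroup.inclusion hle)
  have himg : subg Fi22B.data.gen [0, 1, 2, 3, 4, 5, 7, 8] ≤ f.range := by
    refine (Subgroup.closure_le _).2 ?_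
    rintro _ ⟨i, hi, rfl⟩
    exact ⟨⟨_, Subgroup.subset_closure (pos_R0 L hi)⟩, L.gen i (pos_lt i hi) _ rfl⟩
  have hsub : Nat.card ↥(subg Fi22B.data.gen [0, 1, 2, 3, 4, 5, 7, 8]) = 4585351680 :=
    (Nat.card_congr iso.toEquiv).trans Ortho7.card_std
  have hcent : Subgroup.closure R0 ≤ Subgroup.centralizer ({z, dd M23Fi23.C1} : Set GG) :=
    (Subgroup.closure_le _).2 fun y hy => M23.Pair.mem_K.2 ⟨hy.1.2.2, hy.2.2.2⟩
  have hcl : Nat.card ↥(Subgroup.closure R0) ≤ 4585351680 :=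
    (Subgroup.card_le_of_le hcent).trans
      (M23.Far.card_cent grp Model.prim type23 mem_conjugatesOf_self (dd_mem _) far).le
  have hr' : Nat.card f.range ≤ Nat.card ↥(Subgroup.closure R0) :=
    Nat.card_le_card_of_surjective f.rangeRestrict f.rangeRestrict_surjective
  rw [Subgroup.eq_of_le_of_card_ge himg ((hr'.trans hcl).trans hsub.ge)]
  exact ⟨⟨r, Subgroup.subset_closure hr⟩, rfl⟩

omit L in
theorem top_nodes : ∀ i ∈ [1, 2, 3, 4, 5, 6, 7, 8], nthNat Fi23G.top i ≠ 0 ∧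
    nthNat Fi23G.top i - 1 < 9 := by decide

/-- A neighbour with image in the other subgroup belongs to the first class. -/
theorem mem_M0 {m : GG} (hm : m ∈ nb DD z)
    (h : τ ⟨m, nb_C0 hm⟩ ∈ subg Fi22B.data.gen [1, 2, 3, 4, 5, 6, 7, 8]) : m ∈ M0 := by
  have hle : subg Fi22B.data.gen [1, 2, 3, 4, 5, 6, 7, 8] ≤ (MM.subgroupOf C0).map τ := by
    refine (Subgroup.closure_le _).2 ?_
    rintro _ ⟨i, hi, rfl⟩
    obtain ⟨h0, h9⟩ := top_nodes i hi
    have hi9 : i < 9 := (show ∀ i ∈ [1, 2, 3, 4, 5, 6, 7, 8], i < 9 by decide) i hi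
    have e : xg ⟨_, h9⟩ = Fi23G.data.gen (nthNat Fi23G.top i) :=
      congrArg data.gen (show nthNat Fi23G.top i - 1 + 1 = _ by omega)
    exact ⟨⟨_, GenA.T23.Pt.C0_eq.ge (GenA.T23.Pt.gen_mem hi9)⟩,
      Subgroup.mem_subgroupOf.2 (show Fi23G.data.gen _ ∈ MM from e ▸ xg_MM _), L.gen i hi9 _ rfl⟩
  obtain ⟨x, hx, e⟩ := hle h
  have hxM : (x : GG) ∈ MM := Subgroup.mem_subgroupOf.1 hx
  have hmM : m ∈ MM := by
    rcases L.ker (x⁻¹ * ⟨m, nb_C0 hm⟩) (by rw [map_mul, map_inv, e, inv_mul_cancel]) with e' | e'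
    · rwa [← show (x : GG) = m from congrArg Subtype.val (inv_mul_eq_one.1 e')]
    · rw [show m = (x : GG) * z from congrArg Subtype.val (inv_mul_eq_iff_eq_mul.1 e')]
      exact mul_mem hxM (mem_MM z_T1)
  exact ⟨TT_nb (mem_TT_of_mem hm.1 (MM_le hmM)) hm.2.2.symm, hm⟩

omit L in
/-- The two arms exchanged. -/
theorem exists_sw : ∃ s : MulAut Cfsg.Spor.Fi22,
    (∀ q ∈ Fi22Model.DD, s q ∈ Fi22Model.DD) ∧
    ∀ q ∈ subg Fi22B.data.gen [0, 1, 2, 3, 4, 5, 7, 8],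
      s q ∈ subg Fi22B.data.gen [1, 2, 3, 4, 5, 6, 7, 8] := by
  haveI := FiUnit.finite_Fi
  obtain ⟨α, hα, hg⟩ := GenA.T23.Pt.exists_swap
  refine ⟨MulEquiv.ofBijective α (Finite.injective_iff_bijective.1 hα), fun q hq => ?_, fun q hq => ?_⟩
  · show α q ∈ _
    obtain ⟨g, hgq⟩ := Fi22Model.primitive.1 _ (GenA.T23.Pt.gen_DD (i := 0) (by norm_num)) q hq
    rw [← hgq, map_mul, map_mul, map_inv, hg 0 (by norm_num)]
    exact Fi22Model.grp.2.1 _ _ (GenA.T23.Pt.gen_DD (by decide))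
  · show α q ∈ _
    induction hq using Subgroup.closure_induction with
    | mem x hx =>
      obtain ⟨i, hi, rfl⟩ := hx
      rw [hg i (pos_lt i hi)]
      exact Subgroup.subset_closure ⟨_, (show ∀ i ∈ [0, 1, 2, 3, 4, 5, 7, 8],
        nthNat GenA.T23.Pt.sw i ∈ [1, 2, 3, 4, 5, 6, 7, 8] by decide) i hi, rfl⟩
    | one => rw [map_one]; exact one_mem _
    | mul a b _ _ iha ihb => rw [map_mul]; exact mul_mem iha ihb
    | inv a _ iha => rw [map_inv]; exact inv_mem iha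

omit L in
theorem R0_card : R0.ncard = 351 := by
  haveI : Finite GG := finite_GG
  exact M23.Far.pair_ncard grp Model.prim type23 mem_conjugatesOf_self (dd_mem _) far

/-- The image of a set of neighbours. -/
def img (τ : ↥C0 →* Cfsg.Spor.Fi22) (S : Set GG) : Set Cfsg.Spor.Fi22 :=
  {q | ∃ y, ∃ h : y ∈ C0, y ∈ S ∧ τ ⟨y, h⟩ = q}

theorem img_mem {S : Set GG} {y : GG} (hS : S ⊆ nb DD z) (hy : y ∈ nb DD z)
    (h : τ ⟨y, nb_C0 hy⟩ ∈ img τ S) : y ∈ S := by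
  obtain ⟨y', hy', hy'S, e⟩ := h
  rwa [inj L hy (hS hy'S) e.symm]

theorem img_eq {S T : Set GG} (hS : S ⊆ nb DD z) (hT : T ⊆ nb DD z) (h : img τ S = img τ T) :
    S = T := by
  ext y
  exact ⟨fun hy => img_mem L hT (hS hy) (h ▸ ⟨y, _, hy, rfl⟩),
    fun hy => img_mem L hS (hT hy) (h ▸ ⟨y, _, hy, rfl⟩)⟩

omit L in
theorem img_ncard {S : Set GG} (L : Loc τ) (hS : S ⊆ nb DD z) : (img τ S).ncard = S.ncard := by
  classical
  refine (Set.BijOn.ncard_eq (f := fun y => if h : y ∈ C0 then τ ⟨y, h⟩ else 1) ⟨fun y hy => ?_,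
    fun y hy y' hy' e => ?_, ?_⟩).symm
  · simp only [dif_pos (nb_C0 (hS hy))]
    exact ⟨y, _, hy, rfl⟩
  · simp only [dif_pos (nb_C0 (hS hy)), dif_pos (nb_C0 (hS hy'))] at e
    exact inj L (hS hy) (hS hy') e
  · rintro q ⟨y, h, hy, rfl⟩
    exact ⟨y, hy, dif_pos h⟩

theorem img_conj {k : GG} (hk : k ∈ C0) {S : Set GG} (hS : S ⊆ nb DD z) :
    img τ ((fun y => k * y * k⁻¹) '' S) = MulAut.conj (τ ⟨k, hk⟩) '' img τ S := by
  have e : ∀ {y : GG} (hy : y ∈ C0) (h : k * y * k⁻¹ ∈ C0),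
      τ ⟨k * y * k⁻¹, h⟩ = MulAut.conj (τ ⟨k, hk⟩) (τ ⟨y, hy⟩) := fun {y} hy h => by
    rw [MulAut.conj_apply, ← map_inv, ← map_mul, ← map_mul]; rfl
  ext q
  constructor
  · rintro ⟨_, h, ⟨y, hy, rfl⟩, rfl⟩
    exact ⟨_, ⟨y, nb_C0 (hS hy), hy, rfl⟩, (e _ h).symm⟩
  · rintro ⟨_, ⟨y, h, hy, rfl⟩, rfl⟩
    exact ⟨_, mul_mem (mul_mem hk h) (inv_mem hk), ⟨y, hy, rfl⟩, e h _⟩

omit L in
theorem conj_sub {k : GG} (hk : k ∈ C0) {S : Set GG} (hS : S ⊆ nb DD z) :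
    (fun y => k * y * k⁻¹) '' S ⊆ nb DD z := by
  rintro _ ⟨y, hy, rfl⟩
  exact conj_nb_z hk (hS hy)

/-- The second set is not a conjugate of the first. -/
theorem not_conj {k : GG} (hk : k ∈ C0) : (fun y => k * y * k⁻¹) '' R0 ≠ M0 := by
  intro e
  have h8 : ∀ j ∈ eightIdx, Commute (k * dd M23Fi23.C1 * k⁻¹) (xg j) := fun j hj => by
    obtain ⟨y, hy, hye⟩ := (Set.ext_iff.1 e _).2 (show xg j ∈ M0 from ⟨node_T1 j, eight_nb hj⟩)
    rw [← hye]
    exact Basic.commute_conj.2 hy.2.2.2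
  have h := not_eight (grp.2.1 k _ (dd_mem _)) h8
  rw [← M22.conj_eq_self_iff.2 (mem_C0.1 hk).symm] at h
  exact far (Basic.commute_conj.1 h).symm

/-- The exchange of the arms in the local group. -/
theorem exists_swap_map : ∃ s : MulAut Cfsg.Spor.Fi22, (∀ q ∈ Fi22Model.DD, s q ∈ Fi22Model.DD) ∧
    (∀ g, s ≠ MulAut.conj g) ∧ img τ M0 = s '' img τ R0 := by
  haveI := FiUnit.finite_Fi
  haveI : Finite GG := finite_GG
  obtain ⟨s, hsD, hs⟩ := exists_sw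
  have hsub : s '' img τ R0 ⊆ img τ M0 := by
    rintro _ ⟨_, ⟨r, h, hr, rfl⟩, rfl⟩
    obtain ⟨x, hx, e⟩ := L.lift _ (hsD _ (mem_DD22 L hr.1))
    refine ⟨x, x.2, mem_M0 L hx ?_, e⟩
    rw [show (⟨(x : GG), nb_C0 hx⟩ : ↥C0) = x from rfl, e]
    exact hs _ (R0_image L hr)
  have heq : img τ M0 = s '' img τ R0 := (Set.eq_of_subset_of_ncard_le hsub (by
    rw [img_ncard L M0_sub, Set.ncard_image_of_injective _ s.injective,
      img_ncard L R0_sub, R0_card]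
    exact ncard_le) (Set.toFinite _)).symm
  refine ⟨s, hsD, fun g hg => ?_, heq⟩
  obtain ⟨⟨k, hk⟩, rfl⟩ := L.surj g
  rw [hg, ← img_conj L hk R0_sub] at heq
  exact not_conj L hk (img_eq L M0_sub (conj_sub hk R0_sub) heq).symm

/-- An automorphism of the centraliser carries the first set to a conjugate of one of the two. -/
theorem classes (σ : ↥C0 ≃* ↥C0) (hσz : σ (selfC z) = selfC z)
    (hσ : ∀ y : ↥C0, (y : GG) ∈ nb DD z → z * (σ y : GG) ∈ nb DD z) :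
    ∃ k ∈ C0,
      {m | ∃ y : ↥C0, (y : GG) ∈ R0 ∧ m = z * (σ y : GG)} = (fun y => k * y * k⁻¹) '' R0 ∨
      {m | ∃ y : ↥C0, (y : GG) ∈ R0 ∧ m = z * (σ y : GG)} = (fun y => k * y * k⁻¹) '' M0 := by
  haveI := FiUnit.finite_Fi
  haveI : Finite GG := finite_GG
  set A := {m | ∃ y : ↥C0, (y : GG) ∈ R0 ∧ m = z * (σ y : GG)}
  have hA : A ⊆ nb DD z := by rintro _ ⟨y, hy, rfl⟩; exact hσ y hy.1
  have hker : τ.ker ≤ (τ.comp σ.toMonoidHom).ker := fun c hc => by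
    show τ (σ c) = 1
    rcases L.ker c hc with rfl | rfl
    · rw [map_one, map_one]
    · rw [hσz, L.self]
  obtain ⟨f, hf⟩ : ∃ f : Cfsg.Spor.Fi22 →* Cfsg.Spor.Fi22, ∀ c, f (τ c) = τ (σ c) :=
    ⟨τ.liftOfSurjective L.surj ⟨τ.comp σ.toMonoidHom, hker⟩,
      fun c => MonoidHom.liftOfRightInverse_comp_apply τ _ _ _ c⟩
  have hfs : Function.Surjective f := fun q => by
    obtain ⟨c, rfl⟩ := L.surj q
    exact ⟨τ (σ.symm c), by rw [hf, σ.apply_symm_apply]⟩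
  let a : MulAut Cfsg.Spor.Fi22 := MulEquiv.ofBijective f (Finite.surjective_iff_bijective.1 hfs)
  have ha : img τ A = a '' img τ R0 := by
    have e : ∀ (y : ↥C0) (h : z * (σ y : GG) ∈ C0), τ ⟨z * (σ y : GG), h⟩ = a (τ y) := fun y h => by
      rw [show (⟨z * (σ y : GG), h⟩ : ↥C0) = selfC z * σ y from rfl, map_mul, L.self, one_mul]
      exact (hf y).symm
    ext q
    constructor
    · rintro ⟨_, h, ⟨y, hy, rfl⟩, rfl⟩
      exact ⟨_, ⟨y, y.2, hy, rfl⟩, (e y h).symm⟩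
    · rintro ⟨_, ⟨y, h, hy, rfl⟩, rfl⟩
      have hm := hσ ⟨y, h⟩ hy.1
      exact ⟨_, nb_C0 hm, ⟨⟨y, h⟩, hy, rfl⟩, e _ _⟩
  obtain ⟨s, -, hsne, hM⟩ := exists_swap_map L
  obtain ⟨g', hg'⟩ := FiOut.classify s
  obtain ⟨g, hg⟩ := FiOut.classify a
  replace hg' := hg'.resolve_left (hsne g')
  rcases hg with hg | hg
  · obtain ⟨⟨k, hk⟩, rfl⟩ := L.surj g
    rw [hg, ← img_conj L hk R0_sub] at ha
    exact ⟨k, hk, Or.inl (img_eq L hA (conj_sub hk R0_sub) ha)⟩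
  · obtain ⟨⟨k, hk⟩, hke⟩ := L.surj (g * g'⁻¹)
    refine ⟨k, hk, Or.inr (img_eq L hA (conj_sub hk M0_sub) ?_)⟩
    rw [img_conj L hk M0_sub, hM, ha, Set.image_image, hke, hg, hg']
    refine Set.image_congr' fun q => ?_
    simp [MulAut.mul_apply, MulAut.conj_apply, mul_assoc]

/-- A conjugate of the second set sharing the neighbours of one of its members is the same. -/
theorem det {k v : GG} (hk : k ∈ C0) (hv : v ∈ M0) (hv' : v ∈ (fun y => k * y * k⁻¹) '' M0)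
    (h : ∀ m ∈ M0, Commute m v → m ∈ (fun y => k * y * k⁻¹) '' M0) :
    (fun y => k * y * k⁻¹) '' M0 = M0 := by
  haveI := FiUnit.finite_Fi
  haveI : Finite GG := finite_GG
  obtain ⟨s, -, -, hM⟩ := exists_swap_map L
  obtain ⟨⟨k', hk'⟩, hke⟩ := L.surj (s.symm (τ ⟨k, hk⟩))
  set R' := (fun y => k' * y * k'⁻¹) '' R0
  have hR' : R' ⊆ nb DD z := conj_sub hk' R0_sub
  have himg : img τ ((fun y => k * y * k⁻¹) '' M0) = s '' img τ R' := by
    rw [img_conj L hk M0_sub, hM, img_conj L hk' R0_sub,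
      Set.image_image, Set.image_image, hke]
    refine Set.image_congr' fun q => ?_
    simp [MulAut.conj_apply]
  -- transport
  have pre : ∀ {m : GG}, m ∈ nb DD z → ∀ hr : m ∈ M0, ∃ r, ∃ hr : r ∈ R0,
      s (τ ⟨r, nb_C0 hr.1⟩) = τ ⟨m, nb_C0 (Set.inter_subset_right ‹m ∈ M0›)⟩ := by
    intro m _ hm
    obtain ⟨_, ⟨r, hrC, hr, rfl⟩, e⟩ : τ ⟨m, nb_C0 hm.2⟩ ∈ s '' img τ R0 := hM ▸ ⟨m, _, hm, rfl⟩
    exact ⟨r, hr, e⟩
  have toR' : ∀ {m r : GG} (hm : m ∈ nb DD z) (hr : r ∈ nb DD z),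
      s (τ ⟨r, nb_C0 hr⟩) = τ ⟨m, nb_C0 hm⟩ → m ∈ (fun y => k * y * k⁻¹) '' M0 → r ∈ R' := by
    intro m r hm hr e hmem
    obtain ⟨q, hq, eq⟩ : τ ⟨m, nb_C0 hm⟩ ∈ s '' img τ R' := himg ▸ ⟨m, _, hmem, rfl⟩
    rw [← e] at eq
    exact img_mem L hR' hr (s.injective eq ▸ hq)
  obtain ⟨w, hw, hwe⟩ := pre hv.2 hv
  have hwR' : w ∈ R' := toR' hv.2 hw.1 hwe hv'
  have hall : ∀ r ∈ R0, Commute r w → r ∈ R' := by
    intro r hr hc
    obtain ⟨_, hmC, hmM, e⟩ : s (τ ⟨r, nb_C0 hr.1⟩) ∈ img τ M0 := hM ▸ ⟨_, ⟨r, _, hr, rfl⟩, rfl⟩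
    refine toR' hmM.2 hr.1 e.symm (h _ hmM ?_)
    have hcm : Commute (s (τ ⟨r, nb_C0 hr.1⟩)) (s (τ ⟨w, nb_C0 hw.1⟩)) :=
      ((show Commute (⟨r, nb_C0 hr.1⟩ : ↥C0) ⟨w, nb_C0 hw.1⟩ from Subtype.ext hc.eq).map τ).map
        s.toMonoidHom
    rw [← e, hwe] at hcm
    by_contra hnc
    have hb := congrArg τ (Subtype.ext (Basic.braid grp.1 hmM.2.1 hv.2.1 hnc) :
      (⟨_, hmC⟩ * ⟨v, nb_C0 hv.2⟩ * ⟨_, hmC⟩ : ↥C0) = ⟨v, nb_C0 hv.2⟩ * ⟨_, hmC⟩ * ⟨v, nb_C0 hv.2⟩)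
    simp only [map_mul] at hb
    rw [hcm.eq, mul_assoc, mul_assoc] at hb
    have e2 := mul_left_cancel hb
    exact hnc ((inj L hmM.2 hv.2 (mul_left_cancel e2)) ▸ Commute.refl _)
  set c' := k' * dd M23Fi23.C1 * k'⁻¹ with hc'
  have mem' : ∀ {r : GG}, r ∈ R' → r ∈ nb DD c' := by
    rintro _ ⟨y, hy, rfl⟩
    exact Cover.conj_nb grp k' hy.2
  have hfz : ¬ Commute z c' := fun h' => by
    rw [← M22.conj_eq_self_iff.2 (mem_C0.1 hk').symm] at h'
    exact far (Basic.commute_conj.1 h')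
  -- inside the local group of the shared member
  have hwD := hw.1.1
  have zn : z ∈ nb DD w := Cover.mem_nb_symm mem_conjugatesOf_self hw.1
  have cn : dd M23Fi23.C1 ∈ nb DD w := Cover.mem_nb_symm (dd_mem _) hw.2
  have c'n : c' ∈ nb DD w := Cover.mem_nb_symm (grp.2.1 k' _ (dd_mem _)) (mem' hwR')
  have zcz : z * dd M23Fi23.C1 * z ∈ nb DD w := by
    have := Cover.conj_nb grp z cn
    rwa [M22.conj_eq_self_iff.2 zn.2.2.symm, Basic.inv_eq grp.1 mem_conjugatesOf_self] at this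
  have hcases := GenA.Tower.hull22 (M23.grp grp base hwD) (base.prim w hwD) (base.m22 w hwD)
    (M23.im_mem zn) (M23.im_mem cn) (fun h' => far ((M23.commute_im grp base hwD zn cn).1 h'))
    (M23.im_mem c'n) (by
      rintro q ⟨hq1, hq2⟩
      obtain ⟨r, hr, rfl⟩ := M23.exists_pre hq1.1
      have r1 := (M23.im_nb grp base hwD zn hr).1 hq1
      have r2 := (M23.im_nb grp base hwD cn hr).1 hq2
      exact (M23.commute_im grp base hwD c'n hr).2 (mem' (hall r ⟨r1, r2⟩ hr.2.2.symm)).2.2)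
  have himz : M23.im zn * M23.im cn * M23.im zn = M23.im zcz := rfl
  rw [himz] at hcases
  have hR : R' = R0 := by
    refine Set.eq_of_subset_of_ncard_le (fun r hr => ⟨hR' hr, ?_⟩) ?_ (Set.toFinite _)
    · rcases hcases with e | e | e
      · exact absurd ((M23.im_inj grp base hwD c'n zn e) ▸ Commute.refl z) hfz
      · exact M23.im_inj grp base hwD c'n cn e ▸ mem' hr
      · have e' : c' = z * dd M23Fi23.C1 * z := M23.im_inj grp base hwD c'n zcz e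
        have hr' := Cover.conj_nb grp z (e' ▸ mem' hr)
        rw [M22.conj_eq_self_iff.2 (hR' hr).2.2, Basic.inv_eq grp.1 mem_conjugatesOf_self,
          show z * (z * dd M23Fi23.C1 * z) * z = z * z * dd M23Fi23.C1 * (z * z) by group, z_sq,
          one_mul, mul_one] at hr'
        exact hr'
    · rw [Set.ncard_image_of_injective _ fun a b e => mul_left_cancel (mul_right_cancel e)]
  rw [hR, ← hM] at himg
  exact img_eq L (conj_sub hk M0_sub) M0_sub himg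

end Cfsg.Agent.LargeExtra.AutFi24.Arms
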