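import Cfsg.Agent.GenA.Tower.Main23
import Cfsg.Agent.Lib.ThreeTransp.M22.Products

/-!
In the groups of types M(22) and M(23) a member next to one of two non-commuting neighbours of a
member, and not commuting with the latter, misses one of their common neighbours.
-/

set_option autoImplicit false
set_option linter.unusedSectionVars false

namespace Cfsg.Agent.LargeExtra.AutFi24

open Cfsg.Agent.ThreeTransp
open Cfsg.Agent.ThreeTransp.Factor (nb Hd Sd Dq)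
open Cfsg.Agent.ThreeTransp.Cover (mem_nb_symm)
open Cfsg.Agent.Classical.Unitary
open Cfsg.Agent.Forms
open Cfsg.Agent.GenA.Tower

universe u

variable {G : Type u} [Group G] [Finite G] {D : Set G}

theorem no_four22 (hD : Cfsg.IsThreeTranspositionGroup D) (h22 : Cfsg.IsOfTypeM22 G D)
    {x d y q : G} (hx : x ∈ D) (hd : d ∈ nb D x) (hy : y ∈ nb D x) (hdy : ¬ Commute d y)
    (hq : q ∈ nb D y) (hxq : ¬ Commute x q) :
    ∃ t ∈ nb D x ∩ nb D d ∩ nb D y, ¬ Commute t q := by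
  obtain ⟨C⟩ := M22.exists_chart hD h22 hx
  obtain ⟨b, hb⟩ := Set.nonempty_of_ncard_ne_zero
    ((C.ncard_cross hd hy hdy).trans_ne (by norm_num : (45 : ℕ) ≠ 0))
  by_cases hbq : Commute b q
  swap
  · exact ⟨b, hb, hbq⟩
  obtain ⟨K⟩ := M22.exists_chart hD h22 hb.1.1.1
  have bx : x ∈ nb D b := mem_nb_symm hx hb.1.1
  have bd : d ∈ nb D b := mem_nb_symm hd.1 hb.1.2
  have bY : y ∈ nb D b := mem_nb_symm hy.1 hb.2
  have bq : q ∈ nb D b := ⟨hq.1, fun e => hxq (e.symm ▸ hb.1.1.2.2), hbq⟩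
  obtain ⟨c, ⟨⟨hcb, hcd⟩, hcy⟩, hcx⟩ := Set.nonempty_of_ncard_ne_zero
    ((K.ncard_three bd bY hdy ⟨⟨bx, mem_nb_symm hx hd⟩, mem_nb_symm hx hy⟩).trans_ne
      (by norm_num : (12 : ℕ) ≠ 0))
  by_cases hcq : Commute c q
  swap
  · exact ⟨c, ⟨⟨hcx, hcd⟩, hcy⟩, hcq⟩
  obtain ⟨ξ, hξ0, hξ, rfl⟩ := K.cover x bx
  obtain ⟨δ, hδ0, hδ, rfl⟩ := K.cover d bd
  obtain ⟨η, hη0, hη, rfl⟩ := K.cover y bY
  obtain ⟨ρ, hρ0, hρ, rfl⟩ := K.cover q bq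
  obtain ⟨ω, hω0, hω, rfl⟩ := K.cover c hcb
  have eωξ := (K.comm_iff ω ξ hω0 hω hξ0 hξ).1 hcx.2.2.symm
  have eξω := (K.comm_iff ξ ω hξ0 hξ hω0 hω).1 hcx.2.2
  have hne : ∀ c : K.F, ω ≠ c • ξ := M22.Chart.not_smul K hξ0 hξ hω0 hω hcx.2.1.symm
  have hv0 : ξ + ω ≠ 0 := fun e => hne (-1) (by
    rw [neg_smul, one_smul]; exact eq_neg_of_add_eq_zero_right e)
  have hv : Cfsg.hermForm 6 K.F 2 (ξ + ω) (ξ + ω) = 0 := by
    rw [H_add_left, H_add_right K.hF, H_add_right K.hF, hξ, hω, eωξ, eξω, add_zero, add_zero]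
  have cm : ∀ (t : Fin 6 → K.F) (h0 : t ≠ 0) (ht : Cfsg.hermForm 6 K.F 2 t t = 0),
      Commute (K.f ω) (K.f t) → (Commute (K.f (ξ + ω)) (K.f t) ↔ Commute (K.f ξ) (K.f t)) := by
    intro t h0 ht hc
    rw [K.comm_iff _ t hv0 hv h0 ht, H_add_left, (K.comm_iff ω t hω0 hω h0 ht).1 hc, add_zero,
      K.comm_iff ξ t hξ0 hξ h0 ht]
  have cd := (cm δ hδ0 hδ hcd.2.2.symm).2 hd.2.2
  have cy := (cm η hη0 hη hcy.2.2.symm).2 hy.2.2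
  refine ⟨K.f (ξ + ω), ⟨⟨⟨(K.mem _ hv0 hv).1, fun e => ?_, ?_⟩,
    (K.mem _ hv0 hv).1, fun e => hdy (e ▸ cy), cd.symm⟩,
    (K.mem _ hv0 hv).1, fun e => hdy (e ▸ cd).symm, cy.symm⟩, fun h => ?_⟩
  · obtain ⟨c, hc⟩ := (K.eq_iff ξ (ξ + ω) hξ0 hξ hv0 hv).1 e.symm
    exact hne (c - 1) (by rw [sub_smul, one_smul, ← hc, add_sub_cancel_left])
  · exact ((cm ξ hξ0 hξ hcx.2.2.symm).2 (Commute.refl _)).symm
  · exact hxq ((cm ρ hρ0 hρ hcq).1 h)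

theorem no_four23 (hD : Cfsg.IsThreeTranspositionGroup D) (hprim : Cfsg.IsPrimitiveUnderConj D)
    (h23 : Cfsg.IsOfTypeM23 G D) {x d y q : G} (hx : x ∈ D) (hd : d ∈ nb D x) (hy : y ∈ nb D x)
    (hdy : ¬ Commute d y) (hq : q ∈ nb D y) (hxq : ¬ Commute x q) :
    ∃ t ∈ nb D x ∩ nb D d ∩ nb D y, ¬ Commute t q := by
  obtain ⟨b, hb⟩ := Set.nonempty_of_ncard_ne_zero
    ((GenA.Tower.M23.ncard_cross hD hprim h23 hx hd hy hdy).trans_ne (by norm_num : (126 : ℕ) ≠ 0))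
  by_cases hbq : Commute b q
  swap
  · exact ⟨b, hb, hbq⟩
  have hbD := hb.1.1.1
  have hs := GenA.Tower.M23.sep hD hprim h23 hbD
  have bx : x ∈ nb D b := mem_nb_symm hx hb.1.1
  have bd : d ∈ nb D b := mem_nb_symm hd.1 hb.1.2
  have bY : y ∈ nb D b := mem_nb_symm hy.1 hb.2
  have bq : q ∈ nb D b := ⟨hq.1, fun e => hxq (e.symm ▸ hb.1.1.2.2), hbq⟩
  obtain ⟨T, hT, hTq⟩ := no_four22 (GenA.Tower.M23.grp hD hprim h23 hbD)
    (GenA.Tower.M23.t22 hD hprim h23 hbD) (pr_mem bx) ((pr_nb hD hs bx bd).2 hd)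
    ((pr_nb hD hs bx bY).2 hy) (fun h => hdy ((pr_comm hD bd bY).1 h))
    ((pr_nb hD hs bY bq).2 hq) (fun h => hxq ((pr_comm hD bx bq).1 h))
  obtain ⟨t, ht, rfl⟩ : T ∈ pr D b '' nb D b := by rw [image_nb_pr]; exact hT.1.1.1
  exact ⟨t, ⟨⟨(pr_nb hD hs bx ht).1 hT.1.1, (pr_nb hD hs bd ht).1 hT.1.2⟩,
    (pr_nb hD hs bY ht).1 hT.2⟩, fun h => hTq ((pr_comm hD ht bq).2 h)⟩

end Cfsg.Agent.LargeExtra.AutFi24
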