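import Cfsg.Agent.Lib.LargeExtra.AutFi24.Frame
import Cfsg.Agent.Lib.LargeExtra.AutFi24.Arms
import Cfsg.Agent.Lib.LargeExtra.AutFi24.NoFour
import Cfsg.Agent.GenA.T23.Iso.Glue
import Cfsg.Agent.Lib.ThreeTransp.M23.FarPair

/-!
Two non-commuting members with a common neighbour: in coordinates at one of them the common neighbours
form the orbit of the large subgroup of Fi23.
-/

set_option autoImplicit false
set_option maxRecDepth 100000
set_option linter.style.haveILetI false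
set_option linter.unusedSectionVars false

noncomputable section

namespace Cfsg.Agent.LargeExtra.AutFi24

open Cfsg.Agent.ThreeTransp
open Cfsg.Agent.ThreeTransp.Factor (nb)
open Cfsg.Agent.ThreeTransp.M23Fi23
open Cfsg.Agent.InvChar.Coset
open Cfsg.Agent.InvChar.Coset.Fi23G Cfsg.Agent.InvChar.Coset.Fi23Out
open Cfsg.Agent.GenA.T23.Pt (C0)
open Cfsg.Agent.GenA.Heptad (selfC)
open Cfsg.Agent.LargeExtra.AutFi24.Arms (R0 M0 mem_C0)

attribute [local instance] Model.finite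

universe u

variable {X : Type u} [Group X] [Finite X] {G₀ : Subgroup X} {D : Set X}

/-- An isomorphism onto an inner centraliser matching the classes, the first involution going to a
given pair. -/
structure Coord (G₀ : Subgroup X) (D : Set X) (a x : X) (ι : GG ≃* ↥(Yl G₀ a)) : Prop where
  cls : ∀ u, u ∈ DD ↔ ι u ∈ El G₀ D a
  base : (ι z : X) = a * x

/-- What corresponds to the common neighbours with another member. -/
def S (D : Set X) {a : X} (ι : GG ≃* ↥(Yl G₀ a)) (d : X) : Set GG :=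
  {u | u ∈ DD ∧ a * (ι u : X) ∈ nb D d}

theorem exists_kappa_fix {k : GG} (hk : k ∈ C0) : k * z * k⁻¹ = z :=
  M22.conj_eq_self_iff.2 (mem_C0.1 hk).symm

variable (F : Fr G₀ D)
include F

theorem exists_coord {a x : X} (ha : a ∈ D) (hx : x ∈ nb D a) :
    ∃ ι, Coord G₀ D a x ι := by
  have hM : GenA.T23.L.L23 (El G₀ D a) := ⟨(F.m23 a ha).1, (F.base ha).m22⟩
  obtain ⟨e, he⟩ := GenA.T23.L.Iso.exists_iso grp Model.prim ⟨center_GG, Arms.base.m22⟩ (F.grp a ha)
    (F.prim a ha) hM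
  obtain ⟨g, hg⟩ := (F.prim a ha).1 (e z) (he ▸ ⟨z, mem_conjugatesOf_self, rfl⟩) (F.yv ha hx)
    (F.yv_mem ha hx)
  have hcls : ∀ u, u ∈ DD ↔ e u ∈ El G₀ D a := fun u => by
    rw [← he, e.injective.mem_set_image]
  refine ⟨e.trans (MulAut.conj g), fun u => ?_, ?_⟩
  · rw [hcls u, MulEquiv.trans_apply, MulAut.conj_apply]
    refine ⟨(F.grp a ha).2.1 g _, fun h => ?_⟩
    have := (F.grp a ha).2.1 g⁻¹ _ h
    rwa [show g⁻¹ * (g * e u * g⁻¹) * g⁻¹⁻¹ = e u by group] at this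
  · rw [MulEquiv.trans_apply, MulAut.conj_apply, hg, F.val_yv]

theorem Coord.conj {a x : X} {ι : GG ≃* ↥(Yl G₀ a)} (C : Coord G₀ D a x ι) (h : GG) {x' : X}
    (hx' : a * x' = (ι (h * z * h⁻¹) : X)) :
    Coord G₀ D a x' ((MulAut.conj h).trans ι) := by
  refine ⟨fun u => ?_, ?_⟩
  · rw [MulEquiv.trans_apply, MulAut.conj_apply, ← C.cls]
    refine ⟨grp.2.1 h u, fun hu => ?_⟩
    have := grp.2.1 h⁻¹ _ hu
    rwa [show h⁻¹ * (h * u * h⁻¹) * h⁻¹⁻¹ = u by group] at this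
  · rw [MulEquiv.trans_apply, MulAut.conj_apply, hx']

section

variable {a x : X} {ι : GG ≃* ↥(Yl G₀ a)} (C : Coord G₀ D a x ι) (ha : a ∈ D)
include C ha

theorem Coord.mem {u : GG} (hu : u ∈ DD) : a * (ι u : X) ∈ nb D a := (C.cls u).1 hu

theorem Coord.eq_yv {u : GG} (hu : u ∈ DD) : ι u = F.yv ha (C.mem F ha hu) :=
  Subtype.ext (F.back ha).symm

theorem Coord.comm {u v : GG} (hu : u ∈ DD) (hv : v ∈ DD) :
    Commute (a * (ι u : X)) (a * (ι v : X)) ↔ Commute u v := by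
  rw [← F.yv_commute ha (C.mem F ha hu) (C.mem F ha hv), ← C.eq_yv F ha hu, ← C.eq_yv F ha hv]
  exact ⟨fun h => by simpa using h.map ι.symm.toMonoidHom, fun h => h.map ι.toMonoidHom⟩

theorem Coord.inj {u v : GG} (h : a * (ι u : X) = a * (ι v : X)) : u = v :=
  ι.injective (Subtype.ext (mul_left_cancel h))

theorem Coord.surj {m : X} (hm : m ∈ nb D a) : ∃ u ∈ DD, a * (ι u : X) = m := by
  refine ⟨ι.symm (F.yv ha hm), (C.cls _).2 ?_, ?_⟩
  · rw [ι.apply_symm_apply]; exact F.yv_mem ha hm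
  · rw [ι.apply_symm_apply, F.val_yv, F.back ha]

theorem Coord.at_z : a * (ι z : X) = x := by rw [C.base, F.back ha]

/-- What centralises the first involution goes into the inner centralisers of both members. -/
theorem Coord.cross {b : X} (hb : b ∈ D) (hab : a * x = b * a) {c : GG} (hc : c ∈ C0) :
    (ι c : X) ∈ Yl G₀ b := by
  refine mem_Yl.2 ⟨(ι c).2.1, ?_⟩
  have h1 : Commute a (ι c : X) := (mem_Yl.1 (ι c).2).2
  have h2 : Commute (b * a) (ι c : X) := by
    rw [← hab, ← C.base]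
    exact ((mem_C0.1 hc).map ι.toMonoidHom).map (Yl G₀ a).subtype
  have := h2.mul_left h1
  rwa [mul_assoc, F.sq a ha, mul_one] at this

end

section

variable {y x d : X} (hy : y ∈ D) (hd : d ∈ D) (hnc : ¬ Commute d y) (hxd : x ∈ nb D d)
  (hxy : x ∈ nb D y)
include hy hd hnc hxd hxy

/-- Some common neighbour of the three misses any member beside `y` not commuting with `x`. -/
theorem exists_miss {q : X} (hq : q ∈ nb D y) (hxq : ¬ Commute x q) :
    ∃ m ∈ nb D x ∩ nb D d ∩ nb D y, ¬ Commute m q := by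
  have hx := hxd.1
  have dn : d ∈ nb D x := F.symm hd hxd
  have yn : y ∈ nb D x := F.symm hy hxy
  obtain ⟨U, hU⟩ := Set.nonempty_of_ncard_ne_zero ((M23.Far.pair_ncard (F.grp x hx) (F.prim x hx)
    (F.m23 x hx) (F.yv_mem hx dn) (F.yv_mem hx yn) (fun h => hnc ((F.yv_commute hx dn yn).1 h))).trans_ne
    (by norm_num : (351 : ℕ) ≠ 0))
  obtain ⟨v, hv, rfl⟩ := F.pre hx hU.1.1
  have hvd : v ∈ nb D d := ⟨hv.1, fun e => hU.1.2.1 (Subtype.ext (by rw [F.val_yv, F.val_yv, e])),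
    (F.yv_commute hx dn hv).1 hU.1.2.2⟩
  have hvy : v ∈ nb D y := ⟨hv.1, fun e => hU.2.2.1 (Subtype.ext (by rw [F.val_yv, F.val_yv, e])),
    (F.yv_commute hx yn hv).1 hU.2.2.2⟩
  by_cases hvq : Commute v q
  swap
  · exact ⟨v, ⟨⟨hv, hvd⟩, hvy⟩, hvq⟩
  have hvD := hv.1
  have xv : x ∈ nb D v := F.symm hx hv
  have dv : d ∈ nb D v := F.symm hd hvd
  have yv' : y ∈ nb D v := F.symm hy hvy
  have qv : q ∈ nb D v := ⟨hq.1, fun e => hxq (e.symm ▸ hv.2.2), hvq⟩
  have toNb : ∀ {p r : X} (hp : p ∈ nb D v) (hr : r ∈ nb D v), r ∈ nb D p →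
      F.yv hvD hr ∈ nb (El G₀ D v) (F.yv hvD hp) := fun hp hr h =>
    ⟨F.yv_mem hvD hr, fun e => h.2.1 (F.yv_inj hvD hr hp e), (F.yv_commute hvD hp hr).2 h.2.2⟩
  have ofNb : ∀ {p r : X} (hp : p ∈ nb D v) (hr : r ∈ nb D v),
      F.yv hvD hr ∈ nb (El G₀ D v) (F.yv hvD hp) → r ∈ nb D p := fun hp hr h =>
    ⟨hr.1, fun e => h.2.1 (Subtype.ext (by rw [F.val_yv, F.val_yv, e])),
      (F.yv_commute hvD hp hr).1 h.2.2⟩
  obtain ⟨T, hT, hTq⟩ := no_four23 (F.grp v hvD) (F.prim v hvD) (F.m23 v hvD) (F.yv_mem hvD xv)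
    (toNb xv dv dn) (toNb xv yv' yn) (fun h => hnc ((F.yv_commute hvD dv yv').1 h))
    (toNb yv' qv hq) (fun h => hxq ((F.yv_commute hvD xv qv).1 h))
  obtain ⟨t, ht, rfl⟩ := F.pre hvD hT.1.1.1
  exact ⟨t, ⟨⟨ofNb xv ht hT.1.1, ofNb dv ht hT.1.2⟩, ofNb yv' ht hT.2⟩,
    fun h => hTq ((F.yv_commute hvD ht qv).2 h)⟩

/-- In any coordinates at `y` the common neighbours next to the first involution form a conjugate of
the second set. -/
theorem shape {ι : GG ≃* ↥(Yl G₀ y)} (C : Coord G₀ D y x ι) :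
    ∃ k ∈ C0, S D ι d ∩ nb DD z = (fun w => k * w * k⁻¹) '' M0 := by
  have hx := hxd.1
  have dn : d ∈ nb D x := F.symm hd hxd
  have yn : y ∈ nb D x := F.symm hy hxy
  have hyx : y * x = x * y := hxy.2.2.eq
  obtain ⟨κ₀, K₀⟩ := exists_coord F hx yn
  obtain ⟨c₁, hc₁, hc₁e⟩ := K₀.surj F hx dn
  have hzD : z ∈ DD := mem_conjugatesOf_self
  have hC1 : dd M23Fi23.C1 ∈ DD := dd_mem _
  have hfar₁ : ¬ Commute z c₁ := fun h => hnc (by
    have := (K₀.comm F hx hc₁ hzD).2 h.symm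
    rwa [hc₁e, K₀.at_z F hx] at this)
  obtain ⟨k, hk, hke⟩ := RankThree.linked_outer grp Model.prim
    (GenA.Tower.M23.exists_comm grp Model.prim type23) hzD hC1 hc₁ Arms.far hfar₁
  have hkC : k ∈ C0 := mem_C0.2 (RankThree.loc_commute hk)
  have K : Coord G₀ D x y ((MulAut.conj k).trans κ₀) :=
    K₀.conj F k (by rw [exists_kappa_fix hkC, K₀.base])
  revert K
  generalize hκ : (MulAut.conj k).trans κ₀ = κ
  intro K
  have hκd : x * (κ (dd M23Fi23.C1) : X) = d := by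
    rw [← hκ, MulEquiv.trans_apply, MulAut.conj_apply, hke, hc₁e]
  -- the automorphism of the centraliser
  have ky : ∀ {c : GG}, c ∈ C0 → (κ c : X) ∈ Yl G₀ y := fun hc => K.cross F hx hy hyx.symm hc
  have kx : ∀ {c : GG}, c ∈ C0 → (ι c : X) ∈ Yl G₀ x := fun hc => C.cross F hy hx hyx hc
  have toC : ∀ {c : GG} (hc : c ∈ C0), ι.symm ⟨_, ky hc⟩ ∈ C0 := fun {c} hc => by
    refine mem_C0.2 ?_
    have h : Commute (ι z) ⟨_, ky hc⟩ := Subtype.ext (by
      have := congrArg Subtype.val ((mem_C0.1 hc).map κ.toMonoidHom).eq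
      simp only [MulEquiv.toMonoidHom_eq_coe, MonoidHom.coe_coe, Subgroup.coe_mul, K.base] at this
      simpa [C.base, hyx] using this)
    simpa using h.map ι.symm.toMonoidHom
  have ofC : ∀ {c : GG} (hc : c ∈ C0), κ.symm ⟨_, kx hc⟩ ∈ C0 := fun {c} hc => by
    refine mem_C0.2 ?_
    have h : Commute (κ z) ⟨_, kx hc⟩ := Subtype.ext (by
      have := congrArg Subtype.val ((mem_C0.1 hc).map ι.toMonoidHom).eq
      simp only [MulEquiv.toMonoidHom_eq_coe, MonoidHom.coe_coe, Subgroup.coe_mul, C.base] at this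
      simpa [K.base, hyx] using this)
    simpa using h.map κ.symm.toMonoidHom
  let σ : ↥C0 ≃* ↥C0 :=
    { toFun := fun c => ⟨_, toC c.2⟩
      invFun := fun c => ⟨_, ofC c.2⟩
      left_inv := fun c => Subtype.ext (κ.injective (Subtype.ext (by simp)))
      right_inv := fun c => Subtype.ext (ι.injective (Subtype.ext (by simp)))
      map_mul' := fun c c' => Subtype.ext (ι.injective (Subtype.ext (by simp))) }
  have hσ : ∀ c : ↥C0, (ι (σ c : GG) : X) = (κ (c : GG) : X) := fun c => by simp [σ]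
  have hσz : σ (selfC z) = selfC z := Subtype.ext (ι.injective (Subtype.ext (by
    rw [hσ]
    show (κ z : X) = (ι z : X)
    rw [K.base, C.base, hyx])))
  have hprod : ∀ c : ↥C0, (ι (z * (σ c : GG)) : X) = y * (x * (κ (c : GG) : X)) := fun c => by
    rw [map_mul, Subgroup.coe_mul, hσ, C.base, mul_assoc]
  have hnbz : ∀ c : ↥C0, (c : GG) ∈ nb DD z → z * (σ c : GG) ∈ nb DD z ∧
      y * (ι (z * (σ c : GG)) : X) = x * (κ (c : GG) : X) ∧ x * (κ (c : GG) : X) ∈ nb D y := by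
    intro c hc
    have e : y * (ι (z * (σ c : GG)) : X) = x * (κ (c : GG) : X) := by rw [hprod, F.back hy]
    have hm : x * (κ (c : GG) : X) ∈ nb D y := by
      refine ⟨(K.mem F hx hc.1).1, fun h => hc.2.1 (K.inj F hx (h.trans (K.at_z F hx).symm)), ?_⟩
      have := (K.comm F hx hzD hc.1).2 hc.2.2
      rwa [K.at_z F hx] at this
    refine ⟨?_, e, hm⟩
    have hD : z * (σ c : GG) ∈ DD := (C.cls _).2 (show y * _ ∈ nb D y from e ▸ hm)
    refine ⟨hD, fun h => ?_, (Commute.refl z).mul_right (mem_C0.1 (σ c).2)⟩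
    have hx' : x * (κ (c : GG) : X) = x := by rw [← e, h, C.at_z F hy]
    exact (K.mem F hx hc.1).2.1 hx'
  obtain ⟨τ, L⟩ := Arms.exists_loc
  obtain ⟨k', hk', hcase⟩ := Arms.classes L σ hσz fun c hc => (hnbz c hc).1
  have hA : S D ι d ∩ nb DD z = {m | ∃ c : ↥C0, (c : GG) ∈ R0 ∧ m = z * (σ c : GG)} := by
    ext u
    constructor
    · rintro ⟨⟨hu, hud⟩, hun⟩
      have hm : y * (ι u : X) ∈ nb D x := by
        refine ⟨hud.1, fun h => hun.2.1 (C.inj F hy (h.trans (C.at_z F hy).symm)), ?_⟩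
        have := (C.comm F hy hzD hu).2 hun.2.2
        rwa [C.at_z F hy] at this
      obtain ⟨c, hcD, hce⟩ := K.surj F hx hm
      have hcz : c ∈ nb DD z := by
        refine ⟨hcD, fun h => (C.mem F hy hu).2.1 ?_, (K.comm F hx hzD hcD).1 ?_⟩
        · rw [← hce, h, K.at_z F hx]
        · rw [K.at_z F hx, hce]; exact (C.mem F hy hu).2.2
      refine ⟨⟨c, Arms.nb_C0 hcz⟩, ⟨hcz, hcD, fun h => hud.2.1 ?_, (K.comm F hx hC1 hcD).1 ?_⟩, ?_⟩
      · rw [← hce, show c = dd M23Fi23.C1 from h, hκd]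
      · rw [hκd, hce]; exact hud.2.2
      · refine C.inj F hy ?_
        rw [(hnbz ⟨c, _⟩ hcz).2.1, hce]
    · rintro ⟨c, hc, rfl⟩
      obtain ⟨h1, h2, h3⟩ := hnbz c hc.1
      refine ⟨⟨h1.1, ?_⟩, h1⟩
      rw [h2]
      refine ⟨h3.1, fun h => hc.2.2.1 (K.inj F hx (h.trans hκd.symm)), ?_⟩
      have := (K.comm F hx hC1 hc.2.1).2 hc.2.2.2
      rwa [hκd] at this
  rcases hcase with hR | hM
  · exfalso
    set r := k' * dd M23Fi23.C1 * k'⁻¹
    have hr : r ∈ DD := grp.2.1 k' _ hC1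
    have hzr : ¬ Commute z r := fun h => by
      rw [← exists_kappa_fix hk'] at h
      exact Arms.far (Basic.commute_conj.1 h)
    obtain ⟨m, ⟨⟨hmx, hmd⟩, hmy⟩, hmq⟩ := exists_miss F hy hd hnc hxd hxy (C.mem F hy hr)
      fun h => hzr ((C.comm F hy hzD hr).1 (by rwa [C.at_z F hy]))
    obtain ⟨u, hu, hue⟩ := C.surj F hy hmy
    have huS : u ∈ S D ι d ∩ nb DD z := by
      refine ⟨⟨hu, hue ▸ hmd⟩, hu, fun h => hmx.2.1 ?_, (C.comm F hy hzD hu).1 ?_⟩
      · rw [← hue, h, C.at_z F hy]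
      · rw [C.at_z F hy, hue]; exact hmx.2.2
    rw [hA, hR] at huS
    obtain ⟨w, hw, hwu⟩ := huS
    refine hmq (hue ▸ (C.comm F hy hu hr).2 ?_)
    rw [← hwu]
    exact Basic.commute_conj.2 hw.2.2.2.symm
  · exact ⟨k', hk', hA.trans hM⟩

/-- The common neighbours are the orbit of the large subgroup. -/
theorem exists_orbit :
    ∃ ι : GG ≃* ↥(Yl G₀ y), (∀ u, u ∈ DD ↔ ι u ∈ El G₀ D y) ∧
      ∀ u ∈ DD, (y * (ι u : X) ∈ nb D d ↔ u ∈ TT) := by
  obtain ⟨ι₀, C₀⟩ := exists_coord F hy hxy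
  obtain ⟨k, hk, hshape⟩ := shape F hy hd hnc hxd hxy C₀
  have C : Coord G₀ D y x ((MulAut.conj k).trans ι₀) :=
    C₀.conj F k (by rw [exists_kappa_fix hk, C₀.base])
  revert C
  generalize hι : (MulAut.conj k).trans ι₀ = ι
  intro C
  have hzD : z ∈ DD := mem_conjugatesOf_self
  have hS : S D ι d ∩ nb DD z = M0 := by
    have hi : ∀ u, ι u = ι₀ (k * u * k⁻¹) := fun u => by rw [← hι]; rfl
    ext u
    have e : k * u * k⁻¹ ∈ S D ι₀ d ∩ nb DD z ↔ u ∈ M0 := by
      rw [hshape]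
      exact ⟨fun ⟨w, hw, e⟩ => mul_left_cancel (mul_right_cancel e) ▸ hw, fun h => ⟨u, h, rfl⟩⟩
    rw [← e]
    constructor
    · rintro ⟨⟨hu, h⟩, hn⟩
      exact ⟨⟨grp.2.1 k u hu, hi u ▸ h⟩, Arms.conj_nb_z hk hn⟩
    · rintro ⟨⟨hu, h⟩, hn⟩
      have := Arms.conj_nb_z (inv_mem hk) hn
      rw [show k⁻¹ * (k * u * k⁻¹) * k⁻¹⁻¹ = u by group] at this
      exact ⟨⟨this.1, hi u ▸ h⟩, this⟩
  obtain ⟨τ, L⟩ := Arms.exists_loc
  have zS : z ∈ S D ι d := ⟨hzD, by rw [C.at_z F hy]; exact hxd⟩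
  have key : ∀ u ∈ Model.T1,
      u ∈ S D ι d ∧ ∀ v ∈ nb DD u, (v ∈ S D ι d ↔ v ∈ Model.T1) := by
    refine Model.T1_connected ⟨zS, fun v hv => ?_⟩ ?_
    · exact ⟨fun h => (hS.le ⟨h, hv⟩).1, fun h => (hS.ge (⟨h, hv⟩ : v ∈ M0)).1⟩
    intro u₀ hu₀ hP u hu hc
    by_cases hne : u = u₀
    · exact hne ▸ hP
    have huS : u ∈ S D ι d := (hP.2 u ⟨Model.T1_sub hu, hne, hc⟩).2 hu
    refine ⟨huS, ?_⟩
    obtain ⟨h, hh, rfl⟩ := Model.T1_trans hu
    have hn := C.mem F hy huS.1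
    have C' : Coord G₀ D y _ ((MulAut.conj h).trans ι) :=
      C.conj F h (x' := y * (ι (h * z * h⁻¹) : X)) (F.back hy)
    obtain ⟨k', hk', hsh⟩ := shape F hy hd hnc huS.2 hn C'
    have memS : ∀ w, w ∈ S D ((MulAut.conj h).trans ι) d ↔ h * w * h⁻¹ ∈ S D ι d := fun w => by
      refine ⟨fun hw => ⟨grp.2.1 h w hw.1, hw.2⟩, fun hw => ⟨?_, hw.2⟩⟩
      have := grp.2.1 h⁻¹ _ hw.1
      rwa [show h⁻¹ * (h * w * h⁻¹) * h⁻¹⁻¹ = w by group] at this
    have back : ∀ t, t = h * (h⁻¹ * t * h⁻¹⁻¹) * h⁻¹ := fun t => by group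
    set v := h⁻¹ * u₀ * h⁻¹⁻¹ with hv
    have hvz : v ∈ nb DD z := by
      have h0 : u₀ ∈ nb DD (h * z * h⁻¹) := ⟨Model.T1_sub hu₀, Ne.symm hne, hc.symm⟩
      have := Cover.conj_nb grp h⁻¹ h0
      rwa [show h⁻¹ * (h * z * h⁻¹) * h⁻¹⁻¹ = z by group] at this
    have hvM : v ∈ M0 := ⟨Model.T1_conj (inv_mem hh) hu₀, hvz⟩
    have hk'M : (fun w => k' * w * k'⁻¹) '' M0 = M0 := by
      refine Arms.det L hk' hvM (hsh.le ⟨(memS v).2 (back u₀ ▸ hP.1), hvz⟩) fun m hm hmv => ?_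
      refine hsh.le ⟨(memS m).2 ?_, hm.2⟩
      by_cases hm0 : h * m * h⁻¹ = u₀
      · exact hm0 ▸ hP.1
      have hT : h * m * h⁻¹ ∈ Model.T1 := Model.T1_conj hh hm.1
      refine (hP.2 _ ⟨Model.T1_sub hT, hm0, ?_⟩).2 hT
      rw [back u₀]
      exact Basic.commute_conj.2 hmv.symm
    rw [hk'M] at hsh
    intro w hw
    have hwz : h⁻¹ * w * h⁻¹⁻¹ ∈ nb DD z := by
      have := Cover.conj_nb grp h⁻¹ hw
      rwa [show h⁻¹ * (h * z * h⁻¹) * h⁻¹⁻¹ = z by group] at this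
    constructor
    · intro hws
      rw [back w]
      exact Model.T1_conj hh (hsh.le ⟨(memS _).2 (back w ▸ hws), hwz⟩).1
    · intro hwT
      rw [back w]
      exact (memS _).1 (hsh.ge (⟨Model.T1_conj (inv_mem hh) hwT, hwz⟩ : _ ∈ M0)).1
  -- the derived group commutes with `d`
  have hT : ∀ {t : GG}, t ∈ Model.T1 → y * (ι t : X) ∈ nb D d := fun ht => (key _ ht).1.2
  have hpairval : ∀ t t' : GG, t ∈ DD → t' ∈ DD →
      (ι (t * t') : X) = (y * (ι t : X)) * (y * (ι t' : X)) := fun t t' ht ht' => by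
    rw [map_mul, Subgroup.coe_mul, (mem_Yl.1 (ι t).2).2.eq, mul_assoc, F.back hy]
  have hNK : ∀ n ∈ NN, n ∈ K0 := by
    intro n hn
    refine (MM_dich (NN_le_MM hn)).resolve_right fun h => ?_
    have h0 : xg 0 ∈ NN := by
      have := mul_mem (inv_mem hn) (K0_le h)
      rwa [inv_mul_cancel_left] at this
    have := ψ_NN (g := ⟨xg 0, xg_mem 0⟩) h0
    rw [ψ_node] at this
    exact absurd this (by decide)
  have hdn : ∀ n ∈ NN, Commute d (ι n : X) := by
    intro n hn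
    have hn' := hNK n hn
    clear hn
    induction hn' using Subgroup.closure_induction with
    | mem n hn =>
      obtain ⟨j, rfl⟩ := hn
      rw [hpairval _ _ (Model.T1_sub (Model.node_T1 j)) (Model.T1_sub (Model.node_T1 0))]
      exact (hT (Model.node_T1 j)).2.2.mul_right (hT (Model.node_T1 0)).2.2
    | one => rw [map_one]; exact Commute.one_right _
    | mul a b _ _ iha ihb => rw [map_mul]; exact iha.mul_right ihb
    | inv a _ iha => rw [map_inv]; exact iha.inv_right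
  have T1_NN : ∀ {t : GG}, t ∈ Model.T1 → t * xg 0 ∈ NN := by
    intro t ht
    rcases MM_dich (Model.mem_MM ht) with h | h
    · exfalso
      refine hnc ?_
      have h1 := hdn t (K0_le h)
      have h2 := h1.mul_right (hT ht).2.2
      rw [← mul_assoc, (mem_Yl.1 (ι t).2).2.symm.eq, mul_assoc, ← Subgroup.coe_mul, ← map_mul,
        Basic.sq grp.1 (Model.T1_sub ht), map_one, OneMemClass.coe_one, mul_one] at h2
      exact h2
    · exact K0_le h
  have hTTS : ∀ e ∈ TT, y * (ι e : X) ∈ nb D d := by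
    intro e he
    have heD : e ∈ DD := by obtain ⟨i, rfl⟩ := he; exact dd_mem _
    set E := y * (ι e : X) with hE
    have hEn : E ∈ nb D y := C.mem F hy heD
    set f := E * d * E⁻¹ with hf
    have hfD : f ∈ D := F.conj E d hd
    have hfn : ∀ n ∈ NN, Commute f (ι n : X) := by
      intro n hn
      have hmem : e⁻¹ * n * e⁻¹⁻¹ ∈ NN := LL_normalizes (inv_mem (TT_sub he)) n hn
      have h := (Basic.commute_conj (g := E)).2 (hdn _ hmem)
      rwa [show E * (ι (e⁻¹ * n * e⁻¹⁻¹) : X) * E⁻¹ = (ι n : X) by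
        rw [hE, inv_inv, map_mul, map_mul, map_inv, Subgroup.coe_mul, Subgroup.coe_mul,
          Subgroup.coe_inv,
          show y * (ι e : X) * ((ι e : X)⁻¹ * (ι n : X) * (ι e : X)) * (y * (ι e : X))⁻¹ =
            y * (ι n : X) * y⁻¹ by group,
          (mem_Yl.1 (ι n).2).2.eq, mul_inv_cancel_right]] at h
    have hnode : ∀ k, Commute f (y * (ι (xg k) : X)) := by
      intro k
      obtain ⟨j, hjk, hcm, hjn⟩ := Model.partner k
      have hkD := Model.T1_sub (Model.node_T1 k)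
      have hjD := Model.T1_sub (Model.node_T1 j)
      have h := hfn _ hjn
      rw [hpairval _ _ hkD hjD] at h
      refine (F.pair_split (C.mem F hy hkD).1 ⟨(C.mem F hy hjD).1, fun e' => ?_,
        (C.comm F hy hkD hjD).2 hcm⟩ hfD h).1
      exact hjk (C.inj F hy e')
    have hall : ∀ t ∈ Model.T1, Commute f (y * (ι t : X)) := by
      intro t ht
      have h := hfn _ (T1_NN ht)
      rw [hpairval _ _ (Model.T1_sub ht) (Model.T1_sub (Model.node_T1 0))] at h
      have := h.mul_right (hnode 0)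
      rwa [mul_assoc (y * (ι t : X)), F.sq _ (C.mem F hy (Model.T1_sub (Model.node_T1 0))).1,
        mul_one] at this
    have hx := hxd.1
    have dn : d ∈ nb D x := F.symm hd hxd
    have yn : y ∈ nb D x := F.symm hy hxy
    have hfy : ¬ Commute f y := fun h => hnc (by
      rw [← M22.conj_eq_self_iff.2 hEn.2.2.symm] at h
      exact Basic.commute_conj.1 h)
    have hfx : Commute f x := by
      have := hall z Model.z_T1
      rwa [C.at_z F hy] at this
    have fn : f ∈ nb D x := ⟨hfD, fun e' => hfy (e' ▸ hxy.2.2.symm), hfx.symm⟩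
    have hcases := M23.Far.hull (F.grp x hx) (F.prim x hx) (F.m23 x hx) (F.yv_mem hx yn)
      (F.yv_mem hx dn) (fun h => hnc ((F.yv_commute hx yn dn).1 h).symm) (F.yv_mem hx fn) (by
        rintro W ⟨hW1, hW2⟩
        obtain ⟨m, hm, rfl⟩ := F.pre hx hW1.1
        refine (F.yv_commute hx fn hm).2 ?_
        have hmy : m ∈ nb D y := ⟨hm.1, fun e' => hW1.2.1 (Subtype.ext (by rw [F.val_yv, F.val_yv, e'])),
          (F.yv_commute hx yn hm).1 hW1.2.2⟩
        have hmd : m ∈ nb D d := ⟨hm.1, fun e' => hW2.2.1 (Subtype.ext (by rw [F.val_yv, F.val_yv, e'])),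
          (F.yv_commute hx dn hm).1 hW2.2.2⟩
        obtain ⟨w, hw, hwe⟩ := C.surj F hy hmy
        have hwS : w ∈ S D ι d ∩ nb DD z := by
          refine ⟨⟨hw, hwe ▸ hmd⟩, hw, fun h => hm.2.1 ?_, (C.comm F hy hzD hw).1 ?_⟩
          · rw [← hwe, h, C.at_z F hy]
          · rw [C.at_z F hy, hwe]; exact hm.2.2
        exact hwe ▸ hall w (hS.le hwS).1)
    rcases hcases with h | h | h
    · exact absurd ((F.yv_inj hx fn yn h) ▸ Commute.refl y) hfy
    · have hEd : Commute E d := by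
        have := F.yv_inj hx fn dn h
        exact (M22.conj_eq_self_iff.1 this)
      exact ⟨hEn.1, fun e' => hnc (e' ▸ hEn.2.2.symm), hEd.symm⟩
    · exfalso
      have hyxy : y * d * y⁻¹ = f := by
        have h' := congrArg Subtype.val h
        rw [Subgroup.coe_mul, F.yv_mul hx yn dn, F.val_yv, F.val_yv] at h'
        rw [F.inv hy]
        refine (mul_left_cancel (a := x) (h'.trans ?_)).symm
        calc y * d * (x * y) = y * (d * x) * y := by group
          _ = y * (x * d) * y := by rw [dn.2.2.eq]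
          _ = y * x * d * y := by group
          _ = x * y * d * y := by rw [yn.2.2.eq]
          _ = x * (y * d * y) := by group
      have hcy : Commute d (y * E) := by
        have e1 : y * E * d * (y * E)⁻¹ = d := by
          rw [show y * E * d * (y * E)⁻¹ = y * (E * d * E⁻¹) * y⁻¹ by group, ← hf, ← hyxy,
            show y * (y * d * y⁻¹) * y⁻¹ = y * y * d * (y * y)⁻¹ by group, F.sq y hy, inv_one,
            one_mul, mul_one]
        exact (M22.conj_eq_self_iff.1 e1).symm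
      exact hnc (F.pair_split hy hEn hd hcy).1
  refine ⟨ι, C.cls, fun u hu => ⟨fun h => ?_, hTTS u⟩⟩
  rcases Model.cover hu with h' | ⟨v, hv, hc⟩
  · exact h'
  by_cases huv : u = v
  · exact Model.T1_TT (huv ▸ hv)
  exact Model.T1_TT (((key v hv).2 u ⟨hu, huv, hc.symm⟩).1 ⟨hu, h⟩)

end

end Cfsg.Agent.LargeExtra.AutFi24
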