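import Cfsg.Agent.Lib.ThreeTransp.M24.Fixed
import Cfsg.Agent.GenA.Tower.Main23
import Cfsg.Agent.GenA.T23.One

/-!
A set of involutions outside a subgroup of index two, each of whose inner centralisers is of type M(23)
with the translated neighbours as class: the local facts and the involutions commuting with a member.
-/

set_option autoImplicit false
set_option linter.unusedSectionVars false

namespace Cfsg.Agent.LargeExtra.AutFi24

open Cfsg.Agent.ThreeTransp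
open Cfsg.Agent.ThreeTransp.Factor (nb Rel)
open Cfsg.Agent.ThreeTransp.M22 (IsProd)

universe u

variable {X : Type u} [Group X]

/-- The inner centraliser of a member. -/
abbrev Yl (G₀ : Subgroup X) (a : X) : Subgroup X := G₀ ⊓ Subgroup.centralizer ({a} : Set X)

/-- The neighbours of a member translated into its inner centraliser. -/
def El (G₀ : Subgroup X) (D : Set X) (a : X) : Set ↥(Yl G₀ a) := {y | a * (y : X) ∈ nb D a}

/-- The hypotheses. -/
structure Fr (G₀ : Subgroup X) (D : Set X) : Prop where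
  idx : G₀.index = 2
  conj : ∀ g : X, ∀ a ∈ D, g * a * g⁻¹ ∈ D
  sq : ∀ a ∈ D, a * a = 1
  out : ∀ a ∈ D, a ∉ G₀
  trans : ∀ a ∈ D, ∀ b ∈ D, ∃ g : X, g * a * g⁻¹ = b
  grp : ∀ a ∈ D, Cfsg.IsThreeTranspositionGroup (El G₀ D a)
  prim : ∀ a ∈ D, Cfsg.IsPrimitiveUnderConj (El G₀ D a)
  m23 : ∀ a ∈ D, Cfsg.IsOfTypeM23 ↥(Yl G₀ a) (El G₀ D a)
  /-- A pair of commuting members is determined by its product. -/
  pair_unique : ∀ a ∈ D, ∀ x ∈ nb D a, ∀ f ∈ D, ∀ f' ∈ nb D f, f * f' = a * x → f = a ∨ f = x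
  /-- The product of a commuting pair is not a product of four. -/
  not_four : ∀ a ∈ D, ∀ x ∈ nb D a, ∀ f ∈ D, ∀ y : ↥(Yl G₀ f),
    IsProd (El G₀ D f) 3 y → (y : X) ≠ a * x

variable {G₀ : Subgroup X} {D : Set X}

theorem mem_Yl {a g : X} : g ∈ Yl G₀ a ↔ g ∈ G₀ ∧ Commute a g := by
  rw [Subgroup.mem_inf, Subgroup.mem_centralizer_singleton_iff]
  exact and_congr_right fun _ => ⟨fun h => h.symm, fun h => h.eq.symm⟩

variable (F : Fr G₀ D)
include F

theorem Fr.inv {a : X} (ha : a ∈ D) : a⁻¹ = a := inv_eq_of_mul_eq_one_right (F.sq a ha)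

theorem Fr.ne_one {a : X} (ha : a ∈ D) : a ≠ 1 := fun h => F.out a ha (h ▸ G₀.one_mem)

theorem Fr.order {a : X} (ha : a ∈ D) : orderOf a = 2 :=
  orderOf_eq_prime (by rw [pow_two, F.sq a ha]) (F.ne_one ha)

theorem Fr.mul_mem {a b : X} (ha : a ∉ G₀) (hb : b ∉ G₀) : a * b ∈ G₀ :=
  (Subgroup.mul_mem_iff_of_index_two F.idx).2 (iff_of_false ha hb)

theorem Fr.symm {a x : X} (ha : a ∈ D) (hx : x ∈ nb D a) : a ∈ nb D x :=
  ⟨ha, hx.2.1.symm, hx.2.2.symm⟩

theorem Fr.conj_nb (g : X) {a x : X} (hx : x ∈ nb D a) : g * x * g⁻¹ ∈ nb D (g * a * g⁻¹) :=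
  ⟨F.conj g x hx.1, fun e => hx.2.1 (mul_left_cancel (mul_right_cancel e)),
    Basic.commute_conj.2 hx.2.2⟩

theorem Fr.conj_nb_fix {g a x : X} (hg : g * a * g⁻¹ = a) (hx : x ∈ nb D a) :
    g * x * g⁻¹ ∈ nb D a := by
  have := F.conj_nb g hx
  rwa [hg] at this

theorem Fr.mem_Yl_pair {a x : X} (ha : a ∈ D) (hx : x ∈ nb D a) : a * x ∈ Yl G₀ a :=
  mem_Yl.2 ⟨F.mul_mem (F.out a ha) (F.out x hx.1), (Commute.refl a).mul_right hx.2.2⟩

/-- A neighbour as an element of the class. -/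
def Fr.yv {a x : X} (ha : a ∈ D) (hx : x ∈ nb D a) : ↥(Yl G₀ a) := ⟨a * x, F.mem_Yl_pair ha hx⟩

theorem Fr.val_yv {a x : X} (ha : a ∈ D) (hx : x ∈ nb D a) : ((F.yv ha hx : ↥(Yl G₀ a)) : X) = a * x :=
  rfl

theorem Fr.back {a x : X} (ha : a ∈ D) : a * (a * x) = x := by
  rw [← mul_assoc, F.sq a ha, one_mul]

theorem Fr.yv_mem {a x : X} (ha : a ∈ D) (hx : x ∈ nb D a) : F.yv ha hx ∈ El G₀ D a := by
  show a * (a * x) ∈ nb D a
  rwa [F.back ha]

theorem Fr.pre {a : X} (ha : a ∈ D) {y : ↥(Yl G₀ a)} (hy : y ∈ El G₀ D a) :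
    ∃ (x : X) (hx : x ∈ nb D a), F.yv ha hx = y :=
  ⟨a * y, hy, Subtype.ext (F.back ha)⟩

theorem Fr.yv_inj {a x x' : X} (ha : a ∈ D) (hx : x ∈ nb D a) (hx' : x' ∈ nb D a)
    (h : F.yv ha hx = F.yv ha hx') : x = x' := mul_left_cancel (congrArg Subtype.val h)

theorem Fr.yv_mul {a x x' : X} (ha : a ∈ D) (hx : x ∈ nb D a) (hx' : x' ∈ nb D a) :
    ((F.yv ha hx * F.yv ha hx' : ↥(Yl G₀ a)) : X) = x * x' := by
  show a * x * (a * x') = x * x'
  rw [hx.2.2.eq, mul_assoc, F.back ha]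

theorem Fr.yv_commute {a x x' : X} (ha : a ∈ D) (hx : x ∈ nb D a) (hx' : x' ∈ nb D a) :
    Commute (F.yv ha hx) (F.yv ha hx') ↔ Commute x x' := by
  constructor
  · intro h
    have h' := congrArg Subtype.val h.eq
    rwa [F.yv_mul ha hx hx', F.yv_mul ha hx' hx] at h'
  · exact fun h => Subtype.ext (by rw [F.yv_mul ha hx hx', F.yv_mul ha hx' hx, h.eq])

variable [Finite X]

theorem Fr.base {a : X} (ha : a ∈ D) : M23.Base (El G₀ D a) :=
  M24.base23 (F.grp a ha) (F.prim a ha) (F.m23 a ha)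

theorem Fr.rel {a : X} (ha : a ∈ D) : Rel 6 (El G₀ D a) :=
  (Factor.M23_core (F.grp a ha) (F.prim a ha).1 (F.m23 a ha)).2

/-- Commuting or braided. -/
theorem Fr.braid_nb {a x x' : X} (ha : a ∈ D) (hx : x ∈ nb D a) (hx' : x' ∈ nb D a) :
    Commute x x' ∨ x * x' * x = x' * x * x' := by
  refine or_iff_not_imp_left.2 fun hc => ?_
  have h := congrArg Subtype.val (Basic.braid (F.grp a ha).1 (F.yv_mem ha hx) (F.yv_mem ha hx')
    fun e => hc ((F.yv_commute ha hx hx').1 e))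
  have e : ∀ {p q : X}, Commute a p → Commute a q → a * p * (a * q) * (a * p) = a * (p * q * p) :=
    fun {p q} hp hq => by
      rw [hp.eq, mul_assoc p a, F.back ha, mul_assoc, ← mul_assoc q p a,
        ← mul_assoc p (q * p) a, ← (hp.mul_right (hq.mul_right hp)).eq, mul_assoc p q p]
  change a * x * (a * x') * (a * x) = a * x' * (a * x) * (a * x') at h
  rw [e hx.2.2 hx'.2.2, e hx'.2.2 hx.2.2] at h
  exact mul_left_cancel h

theorem Fr.exists_nb {a : X} (ha : a ∈ D) : ∃ x, x ∈ nb D a := by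
  obtain ⟨y, hy, -⟩ := (F.prim a ha).2.1
  obtain ⟨x, hx, -⟩ := F.pre ha hy
  exact ⟨x, hx⟩

/-- An inner involution commuting with a member. -/
theorem Fr.inner_cases {a w : X} (ha : a ∈ D) (hw : w ∈ Yl G₀ a) (h2 : w * w = 1) (h1 : w ≠ 1) :
    (∃ p q, (p = a ∨ p ∈ nb D a) ∧ p ∈ D ∧ q ∈ nb D a ∧ q ∈ nb D p ∧ w = p * q) ∨
      IsProd (El G₀ D a) 3 ⟨w, hw⟩ := by
  obtain ⟨m, hm1, hm3, hP⟩ := M23.exists_prod (F.grp a ha) (F.base ha) (F.prim a ha) (F.m23 a ha).1
    (F.rel ha) (t := (⟨w, hw⟩ : ↥(Yl G₀ a)))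
    (orderOf_eq_prime (Subtype.ext (by rw [pow_two]; exact h2)) fun e => h1 (congrArg Subtype.val e))
  interval_cases m
  · obtain ⟨l, -, hl, hm, -, hp⟩ := hP
    obtain ⟨y, rfl⟩ := List.length_eq_one_iff.1 hl
    obtain ⟨x, hx, rfl⟩ := F.pre ha (hm y (by simp))
    refine Or.inl ⟨a, x, Or.inl rfl, ha, hx, hx, ?_⟩
    have := congrArg Subtype.val hp
    simpa [F.val_yv] using this.symm
  · obtain ⟨l, hn, hl, hm, hc, hp⟩ := hP
    obtain ⟨y, y', rfl⟩ := List.length_eq_two.1 hl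
    obtain ⟨x, hx, rfl⟩ := F.pre ha (hm y (by simp))
    obtain ⟨x', hx', rfl⟩ := F.pre ha (hm y' (by simp))
    have hne : x ≠ x' := by rintro rfl; simp at hn
    refine Or.inl ⟨x, x', Or.inr hx, hx.1, hx', ⟨hx'.1, hne.symm,
      (F.yv_commute ha hx hx').1 (hc _ (by simp) _ (by simp))⟩, ?_⟩
    rw [← F.yv_mul ha hx hx']
    simpa using (congrArg Subtype.val hp).symm
  · exact Or.inr hP

/-- A member commuting with the product of a commuting pair commutes with both. -/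
theorem Fr.pair_split {a x f : X} (ha : a ∈ D) (hx : x ∈ nb D a) (hf : f ∈ D)
    (hc : Commute f (a * x)) : Commute f a ∧ Commute f x := by
  have h2 : a * x * (a * x) = 1 := by
    rw [hx.2.2.symm.mul_mul_mul_comm, F.sq a ha, F.sq x hx.1, one_mul]
  have h1 : a * x ≠ 1 := fun e => hx.2.1 (by
    rw [← inv_eq_of_mul_eq_one_right e, F.inv ha])
  have fin : ∀ p, p = a ∨ p = x → Commute f p → Commute f a ∧ Commute f x := by
    intro p hp hfp
    have hh : ∀ {u v : X}, v = u * (a * x) → Commute f u → Commute f v :=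
      fun e h => e ▸ h.mul_right hc
    rcases hp with rfl | rfl
    · exact ⟨hfp, hh (F.back ha).symm hfp⟩
    · refine ⟨hh ?_ hfp, hfp⟩
      rw [hx.2.2.eq, F.back hx.1]
  rcases F.inner_cases hf (mem_Yl.2 ⟨F.mul_mem (F.out a ha) (F.out x hx.1), hc⟩) h2 h1 with
    ⟨p, q, hpf, hp, -, hq, e⟩ | h
  · refine fin p (F.pair_unique a ha x hx p hp q hq e.symm) ?_
    rcases hpf with rfl | hpf
    exacts [Commute.refl _, hpf.2.2]
  · exact absurd rfl (F.not_four a ha x hx f hf _ h)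

/-- An outer involution commuting with a member is a member or a product of three commuting
members, one of which is the member or a neighbour. -/
theorem Fr.outer_cases {a w : X} (ha : a ∈ D) (hw : w ∉ G₀) (hc : Commute a w) (h2 : w * w = 1) :
    w ∈ D ∨ ∃ p q r, (p = a ∨ p ∈ nb D a) ∧ p ∈ D ∧ q ∈ nb D p ∧ r ∈ nb D p ∧ r ∈ nb D q ∧
      w = p * q * r := by
  by_cases h1 : a * w = 1
  · left
    rw [← inv_eq_of_mul_eq_one_right h1, F.inv ha]; exact ha
  have hy : a * w ∈ Yl G₀ a := mem_Yl.2 ⟨F.mul_mem (F.out a ha) hw, (Commute.refl a).mul_right hc⟩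
  have hwe : w = a * (a * w) := (F.back ha).symm
  rcases F.inner_cases ha hy (by rw [hc.symm.mul_mul_mul_comm, F.sq a ha, h2, one_mul]) h1 with
    ⟨p, q, hpa, hp, hqa, hqp, e⟩ | h
  · rcases hpa with rfl | hpa
    · left
      rw [hwe, e, F.back ha]; exact hqp.1
    · exact Or.inr ⟨a, p, q, Or.inl rfl, ha, hpa, hqa, hqp, by rw [hwe, e, mul_assoc]⟩
  · obtain ⟨l, hn, hl, hm, hcm, hp⟩ := h
    obtain ⟨y₁, y₂, y₃, rfl⟩ := List.length_eq_three.1 hl
    obtain ⟨p, hpn, rfl⟩ := F.pre ha (hm y₁ (by simp))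
    obtain ⟨q, hqn, rfl⟩ := F.pre ha (hm y₂ (by simp))
    obtain ⟨r, hrn, rfl⟩ := F.pre ha (hm y₃ (by simp))
    have npq : p ≠ q := by rintro rfl; simp at hn
    have npr : p ≠ r := by rintro rfl; simp at hn
    have nqr : q ≠ r := by rintro rfl; simp at hn
    have cm : ∀ {u v : X} (hu : u ∈ nb D a) (hv : v ∈ nb D a),
        Commute (F.yv ha hu) (F.yv ha hv) → Commute u v := fun hu hv => (F.yv_commute ha hu hv).1
    refine Or.inr ⟨p, q, r, Or.inr hpn, hpn.1,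
      ⟨hqn.1, npq.symm, cm hpn hqn (hcm _ (by simp) _ (by simp))⟩,
      ⟨hrn.1, npr.symm, cm hpn hrn (hcm _ (by simp) _ (by simp))⟩,
      ⟨hrn.1, nqr.symm, cm hqn hrn (hcm _ (by simp) _ (by simp))⟩, ?_⟩
    have e := congrArg Subtype.val hp
    simp only [List.prod_cons, List.prod_nil, mul_one, Subgroup.coe_mul, F.val_yv] at e
    rw [hwe, ← e]
    have hk : a * q * (a * r) = q * r := F.yv_mul ha hqn hrn
    rw [hk, ← mul_assoc, F.back ha, ← mul_assoc]

/-- Two members commute or their product has odd order. -/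
theorem Fr.comm_or_odd {d e : X} (hd : d ∈ D) (he : e ∈ D) :
    Commute d e ∨ Odd (orderOf (d * e)) := by
  refine (Nat.even_or_odd (orderOf (d * e))).imp_left fun heven => ?_
  obtain ⟨k, hk⟩ := heven
  set r := d * e with hr
  have hdr : d * r = e := by rw [hr, F.back hd]
  have hdrd : d * r * d = r⁻¹ := by
    rw [hdr, hr, mul_inv_rev, F.inv hd, F.inv he]
  have hk0 : 0 < k := by
    have := orderOf_pos r
    omega
  set u := r ^ k with hu
  have hu2 : u * u = 1 := by rw [hu, ← pow_add, ← hk, pow_orderOf_eq_one]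
  have hu1 : u ≠ 1 := fun h => by
    have := orderOf_le_of_pow_eq_one hk0 h
    omega
  have huinv : u⁻¹ = u := inv_eq_of_mul_eq_one_right hu2
  have hinv : ∀ n : ℕ, d * r ^ n = (r ^ n)⁻¹ * d := fun n => by
    have h1 : d * r ^ n * d⁻¹ = (r ^ n)⁻¹ := by rw [← conj_pow, F.inv hd, hdrd, inv_pow]
    exact mul_inv_eq_iff_eq_mul.1 h1
  have hdu : Commute d u := by
    show d * u = u * d
    rw [hu, hinv, ← hu, huinv]
  have heu : Commute e u := by
    rw [← hdr]
    exact hdu.mul_left (by rw [hu]; exact Commute.self_pow r k)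
  have hduD : d * u ∈ D := by
    rcases Nat.even_or_odd' k with ⟨j, hj | hj⟩
    · have : d * u = (r ^ j)⁻¹ * d * ((r ^ j)⁻¹)⁻¹ := by
        rw [inv_inv, ← hinv, hu, hj, two_mul, pow_add, mul_assoc]
      rw [this]; exact F.conj _ d hd
    · have : d * u = (r ^ j)⁻¹ * e * ((r ^ j)⁻¹)⁻¹ := by
        rw [inv_inv, ← hdr, ← mul_assoc, ← hinv, hu, hj, mul_assoc d, mul_assoc d, ← pow_succ,
          ← pow_add, show j + 1 + j = 2 * j + 1 by omega]
      rw [this]; exact F.conj _ e he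
  have hn : d * u ∈ nb D d :=
    ⟨hduD, fun h => hu1 (mul_eq_left.1 h), (Commute.refl d).mul_right hdu⟩
  exact (F.pair_split hd hn he (by rwa [F.back hd])).1.symm

end Cfsg.Agent.LargeExtra.AutFi24
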