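import Cfsg.Agent.Lib.LargeExtra.AutFi24.Type
import Cfsg.Agent.Lib.LargeExtra.Fischer.OuterInvolution
import Cfsg.Agent.S0364

/-!
The conjugates of the outer involution satisfy the hypotheses: the elementary subgroup of order
`2^11` shows that only the members of the class of the centraliser translate the involution into its
class.
-/

set_option autoImplicit false
set_option maxRecDepth 100000
set_option linter.style.haveILetI false
set_option linter.unusedSectionVars false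

noncomputable section

namespace Cfsg.Agent.LargeExtra.AutFi24

open Cfsg.Agent.ThreeTransp
open Cfsg.Agent.ThreeTransp.Factor (nb)
open Cfsg.Agent.ThreeTransp.M22 (IsProd)
open Cfsg.Agent.LargeExtra.Fischer (OuterData Cz)
open Cfsg.Agent.LargeExtra.PairGraph (IsMathieuSub Pg mathieu)
open Cfsg.Agent.GenA.T23 (Near near_of_commute)

universe u

/-- Membership in a class. -/
theorem memc {H : Type*} [Group H] {a b : H} : b ∈ conjugatesOf a ↔ IsConj a b := Iff.rfl

variable {X : Type u} [Group X] [Finite X] {G₀ : Subgroup X}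

/-- A two-group contains at most one elementary abelian subgroup of order `2^11`. -/
theorem elem_unique {H : Type*} [Group H] [Finite H] {z : H} {Q : Subgroup (Cz z)} [Q.Normal]
    (hF : Cfsg.IsOfLargeFischerTypeAt z Q) {R B B' : Subgroup H} (hR : IsPGroup 2 R)
    (hB : B ≤ R) (hB' : B' ≤ R) (hsq : ∀ b ∈ B, b * b = 1) (hsq' : ∀ b ∈ B', b * b = 1)
    (hc : Nat.card B = 2 ^ 11) (hc' : Nat.card B' = 2 ^ 11) : B = B' := by
  classical
  haveI : Fact (Nat.Prime 2) := ⟨Nat.prime_two⟩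
  obtain ⟨M, ⟨F0⟩⟩ := Fischer.exists_frame hF
  have hS := hF.1
  let TH : Sylow 2 (Cz z) := Classical.arbitrary _
  obtain ⟨F, x, S, hAT, huniq⟩ := Fischer.exists_A0 hS F0 TH
  obtain ⟨P, hP⟩ := Fischer.sylow_extends hS TH
  obtain ⟨-, hcA, -⟩ := Fischer.AG_facts hS F S
  have hun : ∀ C : Subgroup H, C ≤ (P : Subgroup H) → (∀ b ∈ C, b * b = 1) → Nat.card C = 2 ^ 11 →
      C = Fischer.AG hS F S := by
    intro C hC hCsq hle
    have hBC : C ≤ Cz z := fun b hb => by
      obtain ⟨c, -, e⟩ := (hP ▸ hC) hb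
      exact e ▸ c.2
    have h := huniq (C.subgroupOf (Cz z)) (fun b hb => by
      obtain ⟨c, hc, e⟩ := (hP ▸ hC) (Subgroup.mem_subgroupOf.1 hb)
      exact (Subtype.ext e : c = b) ▸ hc)
      (fun b hb => Subtype.ext (hCsq _ hb))
      (by
        rw [Nat.card_congr (Subgroup.subgroupOfEquivOfLe hBC).toEquiv, hle, ← hcA, Fischer.AG,
          Subgroup.card_map_of_injective (Cz z).subtype_injective])
    rw [Fischer.AG, ← h, Subgroup.map_subgroupOf_eq_of_le hBC]
  obtain ⟨P', hP'⟩ := hR.exists_le_sylow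
  obtain ⟨k, hk⟩ := MulAction.exists_smul_eq H P' P
  have key : ∀ C : Subgroup H, C ≤ R → (∀ b ∈ C, b * b = 1) → Nat.card C = 2 ^ 11 →
      C.map (MulAut.conj k).toMonoidHom = Fischer.AG hS F S := fun C hle hs hcC => by
    refine hun _ ?_ ?_ ?_
    · rintro _ ⟨y, hy, rfl⟩; exact hk ▸ ⟨y, hP' (hle hy), rfl⟩
    · rintro _ ⟨y, hy, rfl⟩; rw [← map_mul, hs y hy, map_one]
    · rw [Subgroup.card_map_of_injective (f := (MulAut.conj k).toMonoidHom) (MulAut.conj k).injective, hcC]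
  exact Subgroup.map_injective (f := (MulAut.conj k).toMonoidHom) (MulAut.conj k).injective
    ((key B hB hsq hc).trans (key B' hB' hsq' hc').symm)

theorem prim_image {S T : Type*} [Group S] [Group T] (e : S ≃* T) {E : Set S}
    (h : Cfsg.IsPrimitiveUnderConj E) : Cfsg.IsPrimitiveUnderConj (e '' E) := by
  refine ⟨?_, ?_, fun B hB hinv => ?_⟩
  · rintro _ ⟨a, ha, rfl⟩ _ ⟨b, hb, rfl⟩
    obtain ⟨g, hg⟩ := h.1 a ha b hb
    exact ⟨e g, by rw [← hg, map_mul, map_mul, map_inv]⟩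
  · obtain ⟨a, ha, b, hb, hne⟩ := h.2.1
    exact ⟨_, ⟨a, ha, rfl⟩, _, ⟨b, hb, rfl⟩, fun e' => hne (e.injective e')⟩
  have key : ∀ g : S, e '' ((fun x => g * x * g⁻¹) '' (e ⁻¹' B)) = (fun x => e g * x * (e g)⁻¹) '' B := by
    intro g
    conv_rhs => rw [← Set.image_preimage_eq B e.surjective]
    rw [Set.image_image, Set.image_image]
    simp
  rcases h.2.2 (e ⁻¹' B) (fun x hx => e.injective.mem_set_image.1 (hB hx)) (fun g => by
    rcases hinv (e g) with hg | hg <;> rw [← key g] at hg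
    · left
      conv_rhs => rw [← hg]
      rw [Set.preimage_image_eq _ e.injective]
    · exact Or.inr (Set.disjoint_image_iff e.injective |>.1 (by
        rwa [Set.image_preimage_eq B e.surjective]))) with h' | h'
  · left
    intro x hx y hy
    obtain ⟨x, rfl⟩ := e.surjective x
    obtain ⟨y, rfl⟩ := e.surjective y
    rw [h' hx hy]
  · right
    rw [← Set.image_preimage_eq B e.surjective, h']

theorem isProd_image {S T : Type*} [Group S] [Group T] (e : S ≃* T) {E : Set S} {m : ℕ} {x : S}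
    (h : IsProd E m x) : IsProd (e '' E) m (e x) := by
  obtain ⟨l, hn, hl, hm, hc, rfl⟩ := h
  refine ⟨l.map e, hn.map e.injective, by rw [List.length_map, hl], ?_, ?_, (map_list_prod e l).symm⟩
  · intro y hy
    obtain ⟨x, hx, rfl⟩ := List.mem_map.1 hy
    exact ⟨x, hm x hx, rfl⟩
  · intro y hy y' hy'
    obtain ⟨x, hx, rfl⟩ := List.mem_map.1 hy
    obtain ⟨x', hx', rfl⟩ := List.mem_map.1 hy'
    exact (hc x hx x' hx').map e

section

variable [G₀.Normal] {z : ↥G₀} {Q : Subgroup (Cz z)} [Q.Normal] {d : X} {t g : ↥(Yl G₀ d)}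

/-- All that is used of the outer involution. -/
structure Setup (z : ↥G₀) (Q : Subgroup (Cz z)) [Q.Normal] (d : X) (t g : ↥(Yl G₀ d)) : Prop where
  idx : G₀.index = 2
  type : Cfsg.IsOfLargeFischerTypeAt z Q
  order : orderOf d = 2
  out : d ∉ G₀
  dz : Commute d (z : X)
  grp : Cfsg.IsThreeTranspositionGroup (conjugatesOf t)
  prim : Cfsg.IsPrimitiveUnderConj (conjugatesOf t)
  m23 : Cfsg.IsOfTypeM23 ↥(Yl G₀ d) (conjugatesOf t)
  commutes : Commute (g * t * g⁻¹) t
  ne : g * t * g⁻¹ ≠ t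
  data : OuterData z d t g

variable (S : Setup z Q d t g)
include S

/-- The inclusion into the subgroup of index two. -/
local notation "inc" => Subgroup.inclusion (inf_le_left : Yl G₀ d ≤ G₀)

theorem Setup.base : M23.Base (conjugatesOf t) := M24.base23 S.grp S.prim S.m23

theorem Setup.rel : Factor.Rel 6 (conjugatesOf t) := (Factor.M23_core S.grp S.prim.1 S.m23).2

theorem Setup.dd : d * d = 1 := Basic.mul_self_of_orderOf_two S.order

theorem Setup.inv : d⁻¹ = d := inv_eq_of_mul_eq_one_right S.dd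

theorem Setup.zne : z ≠ 1 := fun e => by
  have h := S.type.1.1
  rw [e, orderOf_one] at h
  exact absurd h (by norm_num)

/-- The central involution in the centraliser. -/
def Setup.zY : ↥(Yl G₀ d) := ⟨(z : X), mem_Yl.2 ⟨z.2, S.dz⟩⟩

theorem Setup.pair_rep : IsProd (conjugatesOf t) 2 (t * (g * t * g⁻¹)) := by
  refine ⟨[t, g * t * g⁻¹], by simpa using S.ne.symm, rfl, ?_, ?_, by simp⟩
  · have hg : g * t * g⁻¹ ∈ conjugatesOf t := isConj_iff.2 ⟨g, rfl⟩
    simp [mem_conjugatesOf_self, hg]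
  · simp [S.commutes, S.commutes.symm]

theorem Setup.not_z {m : ℕ} {y : ↥(Yl G₀ d)} (h : IsProd (conjugatesOf t) m y)
    (hm : m = 1 ∨ m = 2) : ¬ IsConj z (inc y) := by
  intro hc
  rcases hm with rfl | rfl
  · exact S.data.not_conj (hc.trans (MonoidHom.map_isConj inc
      (M23.prod_conj S.grp S.base S.prim S.m23.1 le_rfl (by norm_num) h
        ⟨[t], by simp, rfl, by simp [mem_conjugatesOf_self], by simp, by simp⟩)))
  · exact S.data.not_conj_pair (hc.trans (MonoidHom.map_isConj inc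
      (M23.prod_conj S.grp S.base S.prim S.m23.1 (by norm_num) (by norm_num) h S.pair_rep)))

theorem Setup.kind {y : ↥(Yl G₀ d)} (h2 : y * y = 1) (h1 : y ≠ 1) :
    ∃ m, 1 ≤ m ∧ m ≤ 3 ∧ IsProd (conjugatesOf t) m y :=
  M23.exists_prod S.grp S.base S.prim S.m23.1 S.rel
    (orderOf_eq_prime (by rw [pow_two]; exact h2) h1)

theorem Setup.zY_sq : S.zY * S.zY = 1 := Subtype.ext (show (z : X) * (z : X) = 1 from
  congrArg Subtype.val (show z * z = 1 by rw [← pow_two, ← S.type.1.1, pow_orderOf_eq_one]))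

theorem Setup.z_three : IsProd (conjugatesOf t) 3 S.zY := by
  obtain ⟨m, h1, h3, h⟩ := S.kind S.zY_sq fun e => S.zne (congrArg inc e)
  interval_cases m
  · exact absurd (IsConj.refl z) (S.not_z h (Or.inl rfl))
  · exact absurd (IsConj.refl z) (S.not_z h (Or.inr rfl))
  · exact h

theorem Setup.three_conj {y : ↥(Yl G₀ d)} (h : IsProd (conjugatesOf t) 3 y) : IsConj S.zY y :=
  M23.prod_conj S.grp S.base S.prim S.m23.1 (by norm_num) le_rfl S.z_three h

/-- Elements of the same kind behave in the same way. -/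
theorem Setup.same {m : ℕ} {y y' : ↥(Yl G₀ d)} (h1 : 1 ≤ m) (h3 : m ≤ 3)
    (h : IsProd (conjugatesOf t) m y) (h' : IsProd (conjugatesOf t) m y')
    (hy : d * (y : X) ∈ conjugatesOf d) : d * (y' : X) ∈ conjugatesOf d := by
  obtain ⟨k, hk⟩ := isConj_iff.1 (M23.prod_conj S.grp S.base S.prim S.m23.1 h1 h3 h h')
  rw [memc] at hy ⊢
  refine hy.trans (isConj_iff.2 ⟨(k : X), ?_⟩)
  have hkd : (k : X) * d * (k : X)⁻¹ = d := M22.conj_eq_self_iff.2 (mem_Yl.1 k.2).2.symm
  rw [← hk]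
  push_cast
  calc (k : X) * (d * (y : X)) * (k : X)⁻¹
      = (k : X) * d * (k : X)⁻¹ * ((k : X) * (y : X) * (k : X)⁻¹) := by group
    _ = _ := by rw [hkd]

theorem Setup.shift_mem : d * (t : X) ∈ conjugatesOf d := by
  obtain ⟨q, hq⟩ := S.data.shift
  exact memc.2 (isConj_iff.2 ⟨(q : X), hq⟩)

/-- Only the members translate the involution into its class. -/
theorem Setup.key {y : ↥(Yl G₀ d)} (hy : d * (y : X) ∈ conjugatesOf d) :
    y = 1 ∨ y ∈ conjugatesOf t := by
  classical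
  by_cases hy1 : y = 1
  · exact Or.inl hy1
  have hy2 : y * y = 1 := by
    obtain ⟨x, hx⟩ := isConj_iff.1 (memc.1 hy)
    refine Subtype.ext ?_
    have h1 : d * (y : X) * (d * (y : X)) = 1 := by
      rw [← hx, show x * d * x⁻¹ * (x * d * x⁻¹) = x * (d * d) * x⁻¹ by group, S.dd]; group
    rwa [(mem_Yl.1 y.2).2.symm.mul_mul_mul_comm, S.dd, one_mul] at h1
  obtain ⟨m, hm1, hm3, hP⟩ := S.kind hy2 hy1
  by_cases hm : m = 1
  · subst hm
    obtain ⟨l, -, hl, hmem, -, hp⟩ := hP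
    obtain ⟨a, rfl⟩ := List.length_eq_one_iff.1 hl
    exact Or.inr (by simpa using hp ▸ (show [a].prod ∈ conjugatesOf t by simpa using hmem a (by simp)))
  exfalso
  obtain ⟨A, hA, hAd, htA, -⟩ := S.data.large
  set N := Subgroup.normalizer (A : Set ↥G₀)
  set C : Subgroup ↥G₀ := (Subgroup.centralizer ({d} : Set X)).comap G₀.subtype
  set Δ : Set ↥G₀ := {a | a ∈ A ∧ d * (a : X) ∈ conjugatesOf d}
  -- the orbit
  have hiff : ∀ k k' : ↥G₀, ((k : X) * d * (k : X)⁻¹ = (k' : X) * d * (k' : X)⁻¹ ↔ k⁻¹ * k' ∈ C) :=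
    fun k k' => M22.conj_eq_iff
  have himg : (fun k : ↥G₀ => (k : X) * d * (k : X)⁻¹) '' (N : Set ↥G₀) = (fun a : ↥G₀ => d * (a : X)) '' Δ := by
    ext e
    constructor
    · rintro ⟨n, hn, rfl⟩
      have hmem : d * ((n : X) * d * (n : X)⁻¹) ∈ G₀ := (Subgroup.mul_mem_iff_of_index_two S.idx).2
        (iff_of_false S.out fun h => S.out (by
          have := G₀.mul_mem (G₀.mul_mem (G₀.inv_mem n.2) h) n.2
          simpa [mul_assoc] using this))
      have hr : (⟨_, hmem⟩ : ↥G₀) ∈ A := hA.cent _ fun a ha => Subtype.ext (by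
        show d * ((n : X) * d * (n : X)⁻¹) * (a : X) = (a : X) * (d * ((n : X) * d * (n : X)⁻¹))
        have h' : n⁻¹ * a * n ∈ A := by
          have := (Subgroup.mem_normalizer_iff.1 (inv_mem hn) a).1 ha
          rwa [inv_inv] at this
        have h1 : Commute ((n : X) * d * (n : X)⁻¹) (a : X) := by
          have := (Basic.commute_conj (g := (n : X))).2 (hAd _ h')
          push_cast at this
          rwa [show (n : X) * ((n : X)⁻¹ * (a : X) * (n : X)) * (n : X)⁻¹ = (a : X) by group] at this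
        exact ((hAd a ha).mul_left h1).eq)
      refine ⟨⟨_, hmem⟩, ⟨hr, ?_⟩, ?_⟩
      · show d * (d * ((n : X) * d * (n : X)⁻¹)) ∈ _
        rw [← mul_assoc, S.dd, one_mul]
        exact memc.2 (isConj_iff.2 ⟨(n : X), rfl⟩)
      · show d * (d * ((n : X) * d * (n : X)⁻¹)) = _
        rw [← mul_assoc, S.dd, one_mul]
    · rintro ⟨a, ⟨haA, had⟩, rfl⟩
      obtain ⟨x, hx, hxe⟩ : ∃ x : X, x ∈ G₀ ∧ x * d * x⁻¹ = d * (a : X) := by
        obtain ⟨x, hx⟩ := isConj_iff.1 (memc.1 had)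
        by_cases h : x ∈ G₀
        · exact ⟨x, h, hx⟩
        · refine ⟨x * d, (Subgroup.mul_mem_iff_of_index_two S.idx).2 (iff_of_false h S.out), ?_⟩
          rw [← hx]; group
      set x' : ↥G₀ := ⟨x, hx⟩
      set Ce : Subgroup ↥G₀ := (Subgroup.centralizer ({d * (a : X)} : Set X)).comap G₀.subtype
      have hmemCe : ∀ {k : ↥G₀}, k ∈ Ce ↔ Commute (d * (a : X)) (k : X) := fun {k} => by
        show (k : X) ∈ Subgroup.centralizer ({d * (a : X)} : Set X) ↔ _
        rw [Subgroup.mem_centralizer_singleton_iff]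
        exact ⟨fun h => h.symm, fun h => h.eq.symm⟩
      have hACe : A ≤ Ce := fun b hb => hmemCe.2 ((hAd b hb).mul_left
        (show Commute (a : X) (b : X) from congrArg Subtype.val (hA.comm a haA b hb)))
      set A' : Subgroup ↥G₀ := A.map (MulAut.conj x').toMonoidHom with hA'
      have hA'Ce : A' ≤ Ce := by
        rintro _ ⟨b, hb, rfl⟩
        refine hmemCe.2 ?_
        show Commute (d * (a : X)) (x * (b : X) * x⁻¹)
        rw [← hxe]
        exact Basic.commute_conj.2 (hAd b hb)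
      have hsq' : ∀ b ∈ A', b * b = 1 := by
        rintro _ ⟨b, hb, rfl⟩; rw [← map_mul, hA.sq b hb, map_one]
      have hc' : Nat.card A' = 2 ^ 11 := by
        rw [hA', Subgroup.card_map_of_injective (f := (MulAut.conj x').toMonoidHom) (MulAut.conj x').injective,
          hA.card]
      haveI : Fact (Nat.Prime 2) := ⟨Nat.prime_two⟩
      have p2 : ∀ {B : Subgroup ↥G₀}, B ≤ Ce → Nat.card B = 2 ^ 11 → IsPGroup 2 (B.subgroupOf Ce) :=
        fun {B} hB hc => (IsPGroup.of_card hc).of_equiv (Subgroup.subgroupOfEquivOfLe hB).symm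
      obtain ⟨R, hR⟩ := (p2 hACe hA.card).exists_le_sylow
      obtain ⟨R', hR'⟩ := (p2 hA'Ce hc').exists_le_sylow
      obtain ⟨h, hh⟩ := MulAction.exists_smul_eq ↥Ce R' R
      set B := A'.map (MulAut.conj (h : ↥G₀)).toMonoidHom with hB
      have hBA : B = A := by
        refine elem_unique S.type (R := (R : Subgroup ↥Ce).map Ce.subtype) (R.isPGroup'.map _) ?_ ?_ ?_
          hA.sq ?_ hA.card
        · rintro _ ⟨b, hb, rfl⟩
          exact ⟨h * ⟨b, hA'Ce hb⟩ * h⁻¹, hh ▸ ⟨_, hR' (Subgroup.mem_subgroupOf.2 hb), rfl⟩, rfl⟩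
        · exact fun b hb => ⟨⟨b, hACe hb⟩, hR (Subgroup.mem_subgroupOf.2 hb), rfl⟩
        · rintro _ ⟨b, hb, rfl⟩; rw [← map_mul, hsq' b hb, map_one]
        · rw [hB, Subgroup.card_map_of_injective (f := (MulAut.conj (h : ↥G₀)).toMonoidHom)
            (MulAut.conj (h : ↥G₀)).injective, hc']
      refine ⟨(h : ↥G₀) * x', ?_, ?_⟩
      · refine Subgroup.mem_normalizer_fintype ?_
        intro b hb
        show (h : ↥G₀) * x' * b * ((h : ↥G₀) * x')⁻¹ ∈ A
        rw [← hBA]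
        exact ⟨x' * b * x'⁻¹, ⟨b, hb, rfl⟩, by
          show (h : ↥G₀) * (x' * b * x'⁻¹) * (h : ↥G₀)⁻¹ = _
          group⟩
      · show ((h : ↥G₀) : X) * x * d * (((h : ↥G₀) : X) * x)⁻¹ = d * (a : X)
        rw [show ((h : ↥G₀) : X) * x * d * (((h : ↥G₀) : X) * x)⁻¹ =
          ((h : ↥G₀) : X) * (x * d * x⁻¹) * ((h : ↥G₀) : X)⁻¹ by group, hxe,
          ← (hmemCe.1 h.2).eq, mul_inv_cancel_right]
  have horb : Nat.card ↥N = Δ.ncard * Nat.card ↥(N ⊓ C) := by
    rw [M22.orbit_card N C _ _ himg fun k _ k' _ => hiff k k',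
      Set.ncard_image_of_injective _ fun a b e => Subtype.ext (mul_left_cancel e)]
  -- the bound
  set tG : ↥G₀ := inc t
  have hbound : Nat.card ↥N ≤ 552 * Nat.card ↥(N ⊓ C) := by
    set Ct := Subgroup.centralizer ({tG} : Set ↥G₀)
    set T1 := (fun k : ↥G₀ => k * tG * k⁻¹) '' (N : Set ↥G₀)
    have hT1 : T1.ncard ≤ 276 := by
      rw [← hA.cardP, ← Set.ncard_univ]
      refine le_trans (Set.ncard_le_ncard (t := (fun b : {y : A // Pg z (y : ↥G₀)} => ((b : A) : ↥G₀)) '' Set.univ) ?_)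
        (Set.ncard_image_le Set.finite_univ)
      rintro _ ⟨k, hk, rfl⟩
      refine ⟨⟨⟨_, (Subgroup.mem_normalizer_iff.1 hk tG).1 htA⟩, (PairGraph.Pg_conj k tG).2 ⟨?_, S.data.not_conj⟩⟩, trivial, rfl⟩
      intro e
      have : t = 1 := Subgroup.inclusion_injective (inf_le_left : Yl G₀ d ≤ G₀) (e.trans (map_one inc).symm)
      exact Basic.ne_one S.grp.1 mem_conjugatesOf_self this
    have h1 : Nat.card ↥N = T1.ncard * Nat.card ↥(N ⊓ Ct) :=
      M22.orbit_card N Ct T1 _ rfl fun k _ k' _ => M22.conj_eq_iff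
    set T2 := (fun k : ↥G₀ => (k : X) * d * (k : X)⁻¹) '' ((N ⊓ Ct : Subgroup ↥G₀) : Set ↥G₀)
    have hT2 : T2.ncard ≤ 2 := by
      refine le_trans (Set.ncard_le_ncard (t := {d, d * (t : X)}) ?_) ?_
      · rintro _ ⟨k, hk, rfl⟩
        have hc : Commute (k : X) (t : X) :=
          congrArg Subtype.val (Subgroup.mem_centralizer_singleton_iff.1 hk.2)
        exact S.data.fix k hc
      · exact (Set.ncard_insert_le _ _).trans (by rw [Set.ncard_singleton])
    have h2 : Nat.card ↥(N ⊓ Ct) = T2.ncard * Nat.card ↥((N ⊓ Ct) ⊓ C) :=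
      M22.orbit_card _ C T2 _ rfl fun k _ k' _ => hiff k k'
    have h3 : Nat.card ↥((N ⊓ Ct) ⊓ C) ≤ Nat.card ↥(N ⊓ C) :=
      Subgroup.card_le_of_le (inf_le_inf_right _ inf_le_left)
    rw [h1, h2]
    calc T1.ncard * (T2.ncard * Nat.card ↥((N ⊓ Ct) ⊓ C)) ≤ 276 * (2 * Nat.card ↥(N ⊓ C)) :=
          Nat.mul_le_mul hT1 (Nat.mul_le_mul hT2 h3)
      _ = _ := by ring
  have hΔle : Δ.ncard ≤ 552 := by
    have := hbound
    rw [horb] at this
    exact Nat.le_of_mul_le_mul_right this Nat.card_pos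
  -- the members of the elementary subgroup in the centraliser
  have aY : ∀ a ∈ A, a ≠ 1 → ∃ (b : ↥(Yl G₀ d)) (n : ℕ), inc b = a ∧ 1 ≤ n ∧ n ≤ 3 ∧
      IsProd (conjugatesOf t) n b ∧ (IsConj z a ↔ n = 3) := by
    intro a ha ha1
    set b : ↥(Yl G₀ d) := ⟨(a : X), mem_Yl.2 ⟨a.2, hAd a ha⟩⟩
    obtain ⟨n, h1, h3, h⟩ := S.kind (y := b) (Subtype.ext (show (a : X) * (a : X) = 1 from congrArg Subtype.val (hA.sq a ha)))
      fun e => ha1 (congrArg inc e)
    refine ⟨b, n, rfl, h1, h3, h, fun hc => ?_, fun hn => ?_⟩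
    · by_contra hn
      exact S.not_z h (by omega) hc
    · subst hn
      exact MonoidHom.map_isConj inc (S.three_conj h)
  set Z : Set ↥G₀ := {a | a ∈ A ∧ IsConj z a}
  have hZ : Z.ncard = 1771 := by
    rw [← hA.cardZ, ← Nat.card_coe_set_eq]
    exact Nat.card_congr
      { toFun := fun a => ⟨⟨a.1, a.2.1⟩, a.2.2⟩
        invFun := fun a => ⟨a.1.1, a.1.2, a.2⟩
        left_inv := fun _ => rfl
        right_inv := fun _ => rfl }
  have no_three : ∀ y' : ↥(Yl G₀ d), IsProd (conjugatesOf t) 3 y' → d * (y' : X) ∉ conjugatesOf d := by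
    intro y' hP' hy'
    have hsub : Z ⊆ Δ := by
      rintro a ⟨ha, hc⟩
      have ha1 : a ≠ 1 := fun e => S.zne (isConj_one_left.1 (e ▸ hc))
      obtain ⟨b, n, rfl, h1, h3, hb, hiff⟩ := aY a ha ha1
      obtain rfl := hiff.1 hc
      exact ⟨ha, S.same h1 h3 hP' hb hy'⟩
    have := Set.ncard_le_ncard hsub
    omega
  have hm2 : m = 2 := by
    rcases (show m = 2 ∨ m = 3 by omega) with h | rfl
    · exact h
    · exact absurd hy (no_three y hP)
  subst hm2
  have hΔ : Δ = (A : Set ↥G₀) \ Z := by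
    ext a
    refine ⟨fun ⟨ha, had⟩ => ⟨ha, fun hc => ?_⟩, fun ⟨ha, hc⟩ => ⟨ha, ?_⟩⟩
    · have ha1 : a ≠ 1 := fun e => S.zne (isConj_one_left.1 (e ▸ hc.2))
      obtain ⟨b, n, rfl, -, -, hb, hiff⟩ := aY a ha ha1
      obtain rfl := hiff.1 hc.2
      exact no_three b hb had
    · by_cases ha1 : a = 1
      · rw [ha1, OneMemClass.coe_one, mul_one]; exact mem_conjugatesOf_self
      obtain ⟨b, n, rfl, h1, h3, hb, hiff⟩ := aY a ha ha1
      have hn : n ≠ 3 := fun e => hc ⟨ha, hiff.2 e⟩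
      rcases (show n = 1 ∨ n = 2 by omega) with rfl | rfl
      · exact S.same le_rfl (by norm_num) (y := t)
          ⟨[t], by simp, rfl, by simp [mem_conjugatesOf_self], by simp, by simp⟩ hb S.shift_mem
      · exact S.same h1 h3 hP hb hy
  have h277 : Δ.ncard = 277 := by
    rw [hΔ, Set.ncard_sdiff (fun a ha => ha.1), hZ, show ((A : Set ↥G₀)).ncard = Nat.card A from
      (Nat.card_coe_set_eq _).symm, hA.card]
    norm_num
  have hN : Nat.card ↥N = 2 ^ 11 * 244823040 := by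
    obtain ⟨⟨hn, ⟨e⟩⟩, -⟩ := mathieu hA
    rw [Subgroup.card_eq_card_quotient_mul_card_subgroup (A.subgroupOf N), Nat.card_congr e.toEquiv,
      Cfsg.Agent.S0364.result, Nat.card_congr (Subgroup.subgroupOfEquivOfLe Subgroup.le_normalizer).toEquiv,
      hA.card, mul_comm]
  rw [h277, hN] at horb
  have : (277 : ℕ) ∣ 2 ^ 11 * 244823040 := ⟨_, horb⟩
  norm_num at this

theorem Setup.El_eq : El G₀ (conjugatesOf d) d = conjugatesOf t := by
  ext y
  constructor
  · intro hy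
    refine (S.key hy.1).resolve_left fun e => hy.2.1 ?_
    rw [e, OneMemClass.coe_one, mul_one]
  · intro hy
    have hmem : d * (y : X) ∈ conjugatesOf d :=
      S.same (m := 1) (y := t) le_rfl (by norm_num)
        ⟨[t], by simp, rfl, by simp [mem_conjugatesOf_self], by simp, by simp⟩
        ⟨[y], by simp, rfl, by simpa using hy, by simp, by simp⟩ S.shift_mem
    refine ⟨hmem, fun e => Basic.ne_one S.grp.1 hy (Subtype.ext (mul_eq_left.1 e)), ?_⟩
    exact (Commute.refl d).mul_right (mem_Yl.1 y.2).2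

/-- A conjugation as an isomorphism of inner centralisers. -/
theorem Setup.exists_conj {f : X} (hf : f ∈ conjugatesOf d) :
    ∃ (k : X) (c : ↥(Yl G₀ d) ≃* ↥(Yl G₀ f)), k * d * k⁻¹ = f ∧
      (∀ y, (c y : X) = k * (y : X) * k⁻¹) ∧ c '' conjugatesOf t = El G₀ (conjugatesOf d) f := by
  obtain ⟨k, hk⟩ := isConj_iff.1 (memc.1 hf)
  subst hk
  have hmap : (Yl G₀ d).map (MulAut.conj k).toMonoidHom = Yl G₀ (k * d * k⁻¹) := by
    ext y
    rw [Subgroup.mem_map_equiv, MulAut.conj_symm_apply, mem_Yl, mem_Yl]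
    refine and_congr ⟨fun h => ?_, fun h => ?_⟩ ?_
    · have := Subgroup.Normal.conj_mem (inferInstance : G₀.Normal) _ h k
      simpa [mul_assoc] using this
    · have := Subgroup.Normal.conj_mem (inferInstance : G₀.Normal) _ h k⁻¹
      simpa [mul_assoc] using this
    · rw [← Basic.commute_conj (g := k), show k * (k⁻¹ * y * k) * k⁻¹ = y by group]
  let c : ↥(Yl G₀ d) ≃* ↥(Yl G₀ (k * d * k⁻¹)) :=
    ((MulAut.conj k).subgroupMap (Yl G₀ d)).trans (MulEquiv.subgroupCongr hmap)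
  refine ⟨k, c, rfl, fun y => rfl, ?_⟩
  ext q
  obtain ⟨y, rfl⟩ := c.surjective q
  rw [c.injective.mem_set_image, ← S.El_eq]
  show (d * (y : X) ∈ nb _ d) ↔ k * d * k⁻¹ * (k * (y : X) * k⁻¹) ∈ nb _ (k * d * k⁻¹)
  rw [show k * d * k⁻¹ * (k * (y : X) * k⁻¹) = k * (d * (y : X)) * k⁻¹ by group]
  have hcl : ∀ w, k * w * k⁻¹ ∈ conjugatesOf d ↔ w ∈ conjugatesOf d := fun w => by
    rw [memc, memc]
    exact ⟨fun h => h.trans (isConj_iff.2 ⟨k⁻¹, by group⟩), fun h => h.trans (isConj_iff.2 ⟨k, rfl⟩)⟩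
  exact and_congr (hcl _).symm (and_congr
    (not_congr ⟨fun e => by rw [e], fun e => mul_left_cancel (mul_right_cancel e)⟩)
    Basic.commute_conj.symm)

theorem Setup.pair_unique0 {f f' : X} (hf : f ∈ conjugatesOf d) (hf' : f' ∈ nb (conjugatesOf d) f)
    (h : f * f' = (t : X)) : f = d ∨ f = d * (t : X) := by
  obtain ⟨k, c, hk, hc, hE⟩ := S.exists_conj hf
  have hff : f * f = 1 := by
    rw [← hk, show k * d * k⁻¹ * (k * d * k⁻¹) = k * (d * d) * k⁻¹ by group, S.dd]; group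
  have htY : (t : X) ∈ Yl G₀ f :=
    mem_Yl.2 ⟨t.2.1, h ▸ (Commute.refl f).mul_right hf'.2.2⟩
  have htE : (⟨(t : X), htY⟩ : ↥(Yl G₀ f)) ∈ El G₀ (conjugatesOf d) f := by
    show f * (t : X) ∈ nb _ f
    rwa [← h, ← mul_assoc, hff, one_mul]
  rw [← hE] at htE
  obtain ⟨y, hy, hyt⟩ := htE
  obtain ⟨j, hj⟩ := isConj_iff.1 (memc.1 hy)
  have hK : k * (j : X) * d * (k * (j : X))⁻¹ = f := by
    rw [← hk, show k * (j : X) * d * (k * (j : X))⁻¹ = k * ((j : X) * d * (j : X)⁻¹) * k⁻¹ by group,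
      M22.conj_eq_self_iff.2 (mem_Yl.1 j.2).2.symm]
  have hKt : Commute (k * (j : X)) (t : X) := by
    refine M22.conj_eq_self_iff.1 ?_
    have := congrArg Subtype.val hyt
    rw [hc, ← hj] at this
    push_cast at this
    rw [show k * (j : X) * (t : X) * (k * (j : X))⁻¹ = k * ((j : X) * (t : X) * (j : X)⁻¹) * k⁻¹ by group]
    exact this
  by_cases hG : k * (j : X) ∈ G₀
  · rw [← hK]; exact S.data.fix ⟨_, hG⟩ hKt
  · have hG' : k * (j : X) * d ∈ G₀ :=
      (Subgroup.mul_mem_iff_of_index_two S.idx).2 (iff_of_false hG S.out)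
    have h' := S.data.fix ⟨_, hG'⟩ (hKt.mul_left (mem_Yl.1 t.2).2)
    rw [← hK]
    simp only [show k * (j : X) * d * d * (k * (j : X) * d)⁻¹ = k * (j : X) * d * (k * (j : X))⁻¹ by group] at h'
    exact h'

/-- The hypotheses hold. -/
theorem Setup.fr : Fr G₀ (conjugatesOf d) where
  idx := S.idx
  conj k a ha := by
    rw [memc] at ha ⊢
    exact ha.trans (isConj_iff.2 ⟨k, rfl⟩)
  sq a ha := by
    obtain ⟨k, rfl⟩ := isConj_iff.1 (memc.1 ha)
    rw [show k * d * k⁻¹ * (k * d * k⁻¹) = k * (d * d) * k⁻¹ by group, S.dd]; group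
  out a ha h := by
    obtain ⟨k, rfl⟩ := isConj_iff.1 (memc.1 ha)
    exact S.out (by
      have := Subgroup.Normal.conj_mem (inferInstance : G₀.Normal) _ h k⁻¹
      simpa [mul_assoc] using this)
  trans a ha b hb := isConj_iff.1 ((memc.1 ha).symm.trans (memc.1 hb))
  grp a ha := by
    obtain ⟨k, c, -, -, hE⟩ := S.exists_conj ha
    exact hE ▸ Factor.grp_image c S.grp
  prim a ha := by
    obtain ⟨k, c, -, -, hE⟩ := S.exists_conj ha
    exact hE ▸ prim_image c S.prim
  m23 a ha := by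
    obtain ⟨k, c, -, -, hE⟩ := S.exists_conj ha
    exact hE ▸ GenA.Tower.type23 c _ S.m23
  pair_unique a ha x hx f hf f' hf' h := by
    obtain ⟨k, c, rfl, hc, hE⟩ := S.exists_conj ha
    have haa : k * d * k⁻¹ * (k * d * k⁻¹) = 1 := by
      rw [show k * d * k⁻¹ * (k * d * k⁻¹) = k * (d * d) * k⁻¹ by group, S.dd]; group
    obtain ⟨y, hy, hyx⟩ : ∃ y ∈ conjugatesOf t, (c y : X) = k * d * k⁻¹ * x := by
      have hmem : k * d * k⁻¹ * x ∈ Yl G₀ (k * d * k⁻¹) := mem_Yl.2
        ⟨(Subgroup.mul_mem_iff_of_index_two S.idx).2 (iff_of_false ?_ ?_),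
          (Commute.refl _).mul_right hx.2.2⟩
      · have : (⟨_, hmem⟩ : ↥(Yl G₀ (k * d * k⁻¹))) ∈ El G₀ (conjugatesOf d) (k * d * k⁻¹) := by
          show k * d * k⁻¹ * (k * d * k⁻¹ * x) ∈ nb _ _
          rwa [← mul_assoc, haa, one_mul]
        rw [← hE] at this
        obtain ⟨y, hy, e⟩ := this
        exact ⟨y, hy, congrArg Subtype.val e⟩
      · exact fun h => S.out (by
          have := Subgroup.Normal.conj_mem (inferInstance : G₀.Normal) _ h k⁻¹
          simpa [mul_assoc] using this)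
      · obtain ⟨j, rfl⟩ := isConj_iff.1 (memc.1 hx.1)
        exact fun h => S.out (by
          have := Subgroup.Normal.conj_mem (inferInstance : G₀.Normal) _ h j⁻¹
          simpa [mul_assoc] using this)
    obtain ⟨j, hj⟩ := isConj_iff.1 (memc.1 hy)
    set K := k * (j : X) with hKdef
    have hKd : K * d * K⁻¹ = k * d * k⁻¹ := by
      rw [hKdef, show k * (j : X) * d * (k * (j : X))⁻¹ = k * ((j : X) * d * (j : X)⁻¹) * k⁻¹ by group,
        M22.conj_eq_self_iff.2 (mem_Yl.1 j.2).2.symm]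
    have hKt : K * (t : X) * K⁻¹ = k * d * k⁻¹ * x := by
      rw [← hyx, hc, ← hj, hKdef]; push_cast; group
    have hcj : ∀ w, w ∈ conjugatesOf d → K⁻¹ * w * K ∈ conjugatesOf d := fun w hw =>
      memc.2 ((memc.1 hw).trans (isConj_iff.2 ⟨K⁻¹, by group⟩))
    have hxK : x = K * (d * (t : X)) * K⁻¹ := by
      rw [show K * (d * (t : X)) * K⁻¹ = K * d * K⁻¹ * (K * (t : X) * K⁻¹) by group, hKd, hKt,
        ← mul_assoc, haa, one_mul]
    rcases S.pair_unique0 (hcj f hf) (f' := K⁻¹ * f' * K)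
      ⟨hcj f' hf'.1, fun e => hf'.2.1 (mul_left_cancel (mul_right_cancel e)),
        (Basic.commute_conj (g := K)).1 (by
          rw [show K * (K⁻¹ * f * K) * K⁻¹ = f by group, show K * (K⁻¹ * f' * K) * K⁻¹ = f' by group]
          exact hf'.2.2)⟩
      (by rw [show K⁻¹ * f * K * (K⁻¹ * f' * K) = K⁻¹ * (f * f') * K by group, h, ← hKt]; group) with e | e
    · left
      rw [← hKd, ← e]; group
    · right
      rw [hxK, ← e]; group
  not_four a ha x hx f hf y hy := by
    intro e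
    obtain ⟨k, c, -, hc, hE⟩ := S.exists_conj hf
    obtain ⟨k', c', rfl, hc', hE'⟩ := S.exists_conj ha
    have h3 : IsProd (conjugatesOf t) 3 (c.symm y) := by
      have := isProd_image c.symm hy
      rwa [← hE, Set.image_image, show (fun w => c.symm (c w)) '' conjugatesOf t = conjugatesOf t by
        simp] at this
    obtain ⟨j, hj⟩ := isConj_iff.1 (S.three_conj h3)
    obtain ⟨y', hy', hy'e⟩ : ∃ y' ∈ conjugatesOf t, (c' y' : X) = k' * d * k'⁻¹ * x := by
      have hmem : k' * d * k'⁻¹ * x ∈ Yl G₀ (k' * d * k'⁻¹) :=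
        mem_Yl.2 ⟨e ▸ y.2.1, (Commute.refl _).mul_right hx.2.2⟩
      have : (⟨_, hmem⟩ : ↥(Yl G₀ (k' * d * k'⁻¹))) ∈ El G₀ (conjugatesOf d) (k' * d * k'⁻¹) := by
        show k' * d * k'⁻¹ * (k' * d * k'⁻¹ * x) ∈ nb _ _
        rwa [← mul_assoc, show k' * d * k'⁻¹ * (k' * d * k'⁻¹) = k' * (d * d) * k'⁻¹ by group, S.dd,
          mul_one, mul_inv_cancel, one_mul]
      rw [← hE'] at this
      obtain ⟨y, hy, e'⟩ := this
      exact ⟨y, hy, congrArg Subtype.val e'⟩
    obtain ⟨j', hj'⟩ := isConj_iff.1 (memc.1 hy')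
    have key : k * (j : X) * (z : X) * (k * (j : X))⁻¹ = k' * (j' : X) * (t : X) * (k' * (j' : X))⁻¹ := by
      have h1 := hc (c.symm y)
      rw [c.apply_symm_apply, ← hj, e, ← hy'e, hc', ← hj'] at h1
      push_cast at h1
      rw [show k * (j : X) * (z : X) * (k * (j : X))⁻¹ = k * ((j : X) * (z : X) * (j : X)⁻¹) * k⁻¹ by group,
        show k' * (j' : X) * (t : X) * (k' * (j' : X))⁻¹ = k' * ((j' : X) * (t : X) * (j' : X)⁻¹) * k'⁻¹ by group]
      exact h1.symm
    set w := (k' * (j' : X))⁻¹ * (k * (j : X)) with hw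
    have hwz : w * (z : X) * w⁻¹ = (t : X) := by
      rw [hw, show (k' * (j' : X))⁻¹ * (k * (j : X)) * (z : X) * ((k' * (j' : X))⁻¹ * (k * (j : X)))⁻¹ =
        (k' * (j' : X))⁻¹ * (k * (j : X) * (z : X) * (k * (j : X))⁻¹) * (k' * (j' : X)) by group, key]
      group
    refine S.data.not_conj ?_
    by_cases hG : w ∈ G₀
    · exact isConj_iff.2 ⟨⟨w, hG⟩, Subtype.ext hwz⟩
    · refine isConj_iff.2 ⟨⟨w * d, (Subgroup.mul_mem_iff_of_index_two S.idx).2 (iff_of_false hG S.out)⟩,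
        Subtype.ext ?_⟩
      show w * d * (z : X) * (w * d)⁻¹ = (t : X)
      rw [← hwz, show w * d * (z : X) * (w * d)⁻¹ = w * (d * (z : X) * d⁻¹) * w⁻¹ by group,
        M22.conj_eq_self_iff.2 S.dz]

/-- An involution commuting with the member and conjugate to the first one has its pair nearby. -/
theorem Setup.near_d {y : ↥(Yl G₀ d)} (h2 : y * y = 1) (h1 : y ≠ 1) (hz : ¬ IsConj z (inc y))
    {f f' : X} (hf : f ∈ conjugatesOf d) (hf' : f' ∈ nb (conjugatesOf d) f) (h : f * f' = (y : X)) :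
    Near (conjugatesOf d) d f := by
  have hd : d ∈ conjugatesOf d := mem_conjugatesOf_self
  obtain ⟨m, hm1, hm3, hP⟩ := S.kind h2 h1
  have nbd : ∀ {a : ↥(Yl G₀ d)}, a ∈ conjugatesOf t → d * (a : X) ∈ nb (conjugatesOf d) d := fun {a} ha => by
    rw [← S.El_eq] at ha; exact ha
  rcases (show m = 1 ∨ m = 2 ∨ m = 3 by omega) with rfl | rfl | rfl
  · obtain ⟨l, -, hl, hm, -, hp⟩ := hP
    obtain ⟨a, rfl⟩ := List.length_eq_one_iff.1 hl
    simp only [List.prod_cons, List.prod_nil, mul_one] at hp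
    subst hp
    have hn := nbd (hm a (by simp))
    rcases S.fr.pair_unique d hd _ hn f hf f' hf' (h.trans (by rw [← mul_assoc, S.dd, one_mul])) with e | e
    · exact Or.inl e.symm
    · exact Or.inr (Or.inl (e ▸ hn))
  · obtain ⟨l, hnd, hl, hm, hc, hp⟩ := hP
    obtain ⟨a, b, rfl⟩ := List.length_eq_two.1 hl
    simp only [List.prod_cons, List.prod_nil, mul_one] at hp
    subst hp
    have ha := nbd (hm a (by simp))
    have hb := nbd (hm b (by simp))
    have hab : a ≠ b := fun e => by simp [e] at hnd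
    have hprod : d * (a : X) * (d * (b : X)) = (a : X) * (b : X) := by
      rw [(mem_Yl.1 a.2).2.eq, mul_assoc, ← mul_assoc d, S.dd, one_mul]
    have hcab : Commute (d * (a : X)) (d * (b : X)) := by
      show _ = _
      rw [hprod, (mem_Yl.1 b.2).2.eq, mul_assoc (b : X) d, ← mul_assoc d, S.dd, one_mul]
      exact congrArg Subtype.val (hc a (by simp) b (by simp)).eq
    rcases S.fr.pair_unique _ ha.1 _ ⟨hb.1, fun e => hab (Subtype.ext (mul_left_cancel e)).symm, hcab⟩
      f hf f' hf' (h.trans hprod.symm) with e | e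
    · exact Or.inr (Or.inl (e ▸ ha))
    · exact Or.inr (Or.inl (e ▸ hb))
  · exact absurd (MonoidHom.map_isConj inc (S.three_conj hP)) hz

theorem Setup.cz_near {c : ↥G₀} (hc : c ∈ Cz z) :
    Near (conjugatesOf d) d ((c : X) * d * (c : X)⁻¹) := by
  have hd : d ∈ conjugatesOf d := mem_conjugatesOf_self
  have ht2 : (t : X) * (t : X) = 1 := congrArg Subtype.val (Basic.mul_self_of_orderOf_two
    (S.grp.1.1 t mem_conjugatesOf_self))
  have hn : d * (t : X) ∈ nb (conjugatesOf d) d := by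
    have : t ∈ El G₀ (conjugatesOf d) d := S.El_eq.symm ▸ mem_conjugatesOf_self
    exact this
  obtain ⟨c', hc', h1, h2⟩ := S.data.link c hc
  have step : ∀ k : ↥G₀, Commute d ((k : X) * (t : X) * (k : X)⁻¹) →
      Near (conjugatesOf d) d ((k : X) * d * (k : X)⁻¹) := by
    intro k hk
    have hmem : (k : X) * (t : X) * (k : X)⁻¹ ∈ Yl G₀ d :=
      mem_Yl.2 ⟨G₀.mul_mem (G₀.mul_mem k.2 t.2.1) (G₀.inv_mem k.2), hk⟩
    refine S.near_d (y := ⟨_, hmem⟩) (Subtype.ext ?_) (fun e => ?_) (fun hz => ?_)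
      (S.fr.conj _ d hd) (S.fr.conj_nb (k : X) hn) ?_
    · show (k : X) * (t : X) * (k : X)⁻¹ * ((k : X) * (t : X) * (k : X)⁻¹) = 1
      rw [show (k : X) * (t : X) * (k : X)⁻¹ * ((k : X) * (t : X) * (k : X)⁻¹) =
        (k : X) * ((t : X) * (t : X)) * (k : X)⁻¹ by group, ht2]
      group
    · have e' : (k : X) * (t : X) * (k : X)⁻¹ = 1 := congrArg Subtype.val e
      exact Basic.ne_one S.grp.1 mem_conjugatesOf_self (Subtype.ext (conj_eq_one_iff.1 e'))
    · exact S.data.not_conj (hz.trans (isConj_iff.2 ⟨k⁻¹, Subtype.ext (by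
        show (k : X)⁻¹ * ((k : X) * (t : X) * (k : X)⁻¹) * ((k : X)⁻¹)⁻¹ = (t : X)
        group)⟩))
    · show (k : X) * d * (k : X)⁻¹ * ((k : X) * (d * (t : X)) * (k : X)⁻¹) = (k : X) * (t : X) * (k : X)⁻¹
      rw [show (k : X) * d * (k : X)⁻¹ * ((k : X) * (d * (t : X)) * (k : X)⁻¹) =
        (k : X) * (d * d) * (t : X) * (k : X)⁻¹ by group, S.dd, mul_one]
  have hfirst := step c' h1
  have hsecond := near_conj S.fr (c' : X) (step (c'⁻¹ * c) (by
    have := (Basic.commute_conj (g := (c' : X)⁻¹)).2 h2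
    push_cast
    simpa [mul_assoc] using this))
  push_cast at hsecond
  rw [show (c' : X) * ((c' : X)⁻¹ * (c : X) * d * ((c' : X)⁻¹ * (c : X))⁻¹) * (c' : X)⁻¹ =
    (c : X) * d * (c : X)⁻¹ by group] at hsecond
  exact near_trans S.fr hd (S.fr.conj _ d hd) (S.fr.conj _ d hd) hfirst hsecond

/-- The stabiliser condition holds. -/
theorem Setup.stab : Stab G₀ (conjugatesOf d) := by
  intro f hf w hw x hx
  obtain ⟨k, c, hk, hc, hE⟩ := S.exists_conj hf
  have h3 : IsProd (conjugatesOf t) 3 (c.symm w) := by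
    have := isProd_image c.symm hw
    rwa [← hE, Set.image_image, show (fun w => c.symm (c w)) '' conjugatesOf t = conjugatesOf t by
      simp] at this
  obtain ⟨j, hj⟩ := isConj_iff.1 (S.three_conj h3)
  set K := k * (j : X) with hKdef
  have hKd : K * d * K⁻¹ = f := by
    rw [← hk, hKdef, show k * (j : X) * d * (k * (j : X))⁻¹ = k * ((j : X) * d * (j : X)⁻¹) * k⁻¹ by group,
      M22.conj_eq_self_iff.2 (mem_Yl.1 j.2).2.symm]
  have hKz : K * (z : X) * K⁻¹ = (w : X) := by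
    have h1 := hc (c.symm w)
    rw [c.apply_symm_apply, ← hj] at h1
    push_cast at h1
    rw [h1, hKdef]
    show k * (j : X) * (z : X) * (k * (j : X))⁻¹ = k * ((j : X) * (z : X) * (j : X)⁻¹) * k⁻¹
    group
  have hg : Commute (K⁻¹ * x * K) (z : X) := by
    refine (Basic.commute_conj (g := K)).1 ?_
    rwa [show K * (K⁻¹ * x * K) * K⁻¹ = x by group, hKz]
  have main : Near (conjugatesOf d) d (K⁻¹ * x * K * d * (K⁻¹ * x * K)⁻¹) := by
    by_cases hG : K⁻¹ * x * K ∈ G₀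
    · exact S.cz_near (c := ⟨_, hG⟩) (Subgroup.mem_centralizer_singleton_iff.2 (Subtype.ext hg.eq))
    · have := S.cz_near (c := ⟨K⁻¹ * x * K * d,
        (Subgroup.mul_mem_iff_of_index_two S.idx).2 (iff_of_false hG S.out)⟩)
        (Subgroup.mem_centralizer_singleton_iff.2 (Subtype.ext (hg.mul_left S.dz).eq))
      simpa [mul_assoc] using this
  have h := near_conj S.fr K main
  rw [hKd, show K * (K⁻¹ * x * K * d * (K⁻¹ * x * K)⁻¹) * K⁻¹ = x * (K * d * K⁻¹) * x⁻¹ by group, hKd] at h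
  exact h

theorem Setup.type24 : ∃ E : Set X, Cfsg.IsThreeTranspositionClass E ∧ Cfsg.IsOfTypeM24 X E :=
  AutFi24.type24 S.fr S.stab ⟨d, mem_conjugatesOf_self⟩

end

end Cfsg.Agent.LargeExtra.AutFi24
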