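import Cfsg.Agent.Lib.LargeExtra.AutFi24.Scans
import Cfsg.Agent.GenA.T23.Pt.Pair
import Cfsg.Agent.GenA.T23.Type

/-!
The first class of the large subgroup of the presented group Fi23.
-/

set_option autoImplicit false
set_option maxRecDepth 100000
set_option linter.style.haveILetI false

noncomputable section

namespace Cfsg.Agent.LargeExtra.AutFi24.Model

open Cfsg.Agent.ThreeTransp
open Cfsg.Agent.ThreeTransp.Factor (nb)
open Cfsg.Agent.ThreeTransp.M23Fi23
open Cfsg.Agent.LargeExtra.AutFi24.Scans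
open Cfsg.Agent.CosetCert
open Cfsg.Agent.InvChar.Coset
open Cfsg.Agent.InvChar.Coset.Fi23G Cfsg.Agent.InvChar.Coset.Fi23Out
open Cfsg.Agent.InvChar.Coset.TreePerm (rd seqN nthT)

/-- The first class. -/
def T1 : Set GG := Set.range fE.am

theorem finite : Finite GG := finite_GG

theorem prim : Cfsg.IsPrimitiveUnderConj DD := by
  haveI := FiUnit.finite_Fi
  haveI : Finite GG := finite_GG
  obtain ⟨τ, F, -⟩ := GenA.T23.Pt.frame
  exact GenA.T23.prim F ⟨z, mem_conjugatesOf_self⟩

theorem fx_iff {k : ℕ} (hk : k < 10) (c : Fin 31671) :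
    fx k c = true ↔ φ (data.gen k) c = c := by
  rw [fx, Nat.beq_eq, Fin.ext_iff, φ_gen_val hk]

theorem fz_iff (c : Fin 31671) : fx 17 c = true ↔ Commute (dd c) z := by
  rw [fx, Nat.beq_eq, show Commute (dd c) z ↔ Commute z (dd c) from ⟨Commute.symm, Commute.symm⟩,
    commute_dd_iff, Fin.ext_iff, φ_z]
  rfl

theorem T1_sub : T1 ⊆ DD := by rintro _ ⟨i, rfl⟩; exact dd_mem _

theorem am_sp (i : Fin fE.k) :
    fE.am i = dd (sp ⟨i, lt_of_lt_of_le i.2 (show 1080 ≤ 3240 by norm_num)⟩) :=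
  congrArg dd (sp_first ⟨i, lt_of_lt_of_le i.2 (show 1080 ≤ 3240 by norm_num)⟩ i.2).symm

theorem T1_TT : T1 ⊆ TT := by rintro _ ⟨i, rfl⟩; exact ⟨_, (am_sp i).symm⟩

theorem closure_T1 : Subgroup.closure T1 = MM := MM_eq.symm

theorem mem_MM {t : GG} (ht : t ∈ T1) : t ∈ MM := closure_T1 ▸ Subgroup.subset_closure ht

theorem node_T1 (k : Fin 9) : xg k ∈ T1 := ⟨_, am_node k⟩

theorem zero_row : rd ePos 0 - 1 < 1080 ∧ fE.pt (rd ePos 0 - 1) = 0 := by decide +kernel

theorem z_T1 : z ∈ T1 := by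
  obtain ⟨h1, h2⟩ := zero_row
  refine ⟨⟨_, h1⟩, ?_⟩
  rw [← dd_base]
  exact congrArg dd (Fin.ext ((Frame.ptF_val valid_E _).trans h2))

/-- The eight nodes next to the first involution. -/
def eightIdx : List (Fin 9) := [0, 1, 2, 3, 4, 5, 7, 8]

theorem eight_pts : ∀ k ∈ eightIdx, fx 17 (ptG ((k : ℕ) + 1)) = true ∧ ptG ((k : ℕ) + 1) ≠ 0 := by
  decide +kernel

theorem eight_nb {k : Fin 9} (hk : k ∈ eightIdx) : xg k ∈ nb DD z := by
  obtain ⟨h1, h2⟩ := eight_pts k hk
  have h10 : (k : ℕ) + 1 < 10 := by omega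
  rw [xg_dd]
  refine ⟨dd_mem _, fun e => h2 ?_, ((fz_iff _).1 (by rwa [cpt_val h10])).symm⟩
  rw [← dd_base] at e
  rw [← cpt_val h10, dd_injective e]
  rfl

/-- Commuting with the eight nodes forces commuting with the first involution. -/
theorem not_eight {c : GG} (hc : c ∈ DD) (h : ∀ k ∈ eightIdx, Commute c (xg k)) : Commute c z := by
  obtain ⟨c, rfl⟩ := mem_DD.1 hc
  have hk : ∀ k ∈ eightIdx, fx ((k : ℕ) + 1) c = true := fun k hk =>
    (fx_iff (by omega) c).2 (commute_dd_iff.1 (h k hk).symm)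
  have h0 := upto_four eight_ok c.2
  simp only [okA, Bool.or_eq_true, Bool.not_eq_true'] at h0
  refine (fz_iff c).1 (h0.resolve_left fun h1 => ?_)
  have : eight c = true := by
    simp only [eight, Bool.and_eq_true]
    exact ⟨hk 0 (by decide), hk 1 (by decide), hk 2 (by decide), hk 3 (by decide), hk 4 (by decide),
      hk 5 (by decide), hk 7 (by decide), hk 8 (by decide)⟩
  rw [h1] at this
  exact absurd this (by decide)

/-- Only the first class meets the centraliser of the first involution. -/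
theorem TT_nb {t : GG} (ht : t ∈ TT) (hc : Commute t z) : t ∈ T1 := by
  obtain ⟨i, rfl⟩ := ht
  by_cases hi : (i : ℕ) < 1080
  · exact ⟨⟨i, hi⟩, am_sp ⟨i, hi⟩⟩
  · exfalso
    have h := upto_spec _ others_ok ((i : ℕ) - 1080) (by omega)
    have h1 := (fz_iff (sp i)).2 hc
    rw [sp_val] at h1
    simp only [okT, Nat.add_eq, show 1080 + ((i : ℕ) - 1080) = i by omega, h1, Bool.not_true,
      Bool.false_eq_true] at h

theorem cntM_eq (n : ℕ) : cntM n =
    ((Finset.range n).filter fun i => fx 17 (fE.pt i) = true ∧ fE.pt i ≠ 0).card := by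
  induction n with
  | zero => rfl
  | succ n ih =>
    rw [cntM, Finset.range_add_one, Finset.filter_insert]
    by_cases h : fx 17 (fE.pt n) = true ∧ fE.pt n ≠ 0
    · rw [if_pos h, Finset.card_insert_of_notMem (by simp),
        show (fx 17 (fE.pt n) && !(Nat.beq (fE.pt n) 0)) = true by
          simp [h.1, h.2, ← Bool.not_eq_true], ih]
    · rw [if_neg h, show (fx 17 (fE.pt n) && !(Nat.beq (fE.pt n) 0)) = false by
        simp only [Bool.and_eq_false_iff, Bool.not_eq_false', Nat.beq_eq]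
        by_cases h1 : fx 17 (fE.pt n) = true
        · exact Or.inr (not_not.1 fun h2 => h ⟨h1, h2⟩)
        · exact Or.inl (Bool.not_eq_true _ ▸ h1), ih]

theorem ncard_le : (T1 ∩ nb DD z).ncard ≤ 351 := by
  have e := (cntM_eq 1080).symm.trans count_ok
  rw [← e, ← Set.ncard_coe_finset]
  refine le_trans (Set.ncard_le_ncard (t := (fun i : ℕ =>
    if h : i < 1080 then fE.am ⟨i, h⟩ else 1) '' ↑((Finset.range 1080).filter
      fun i => fx 17 (fE.pt i) = true ∧ fE.pt i ≠ 0)) ?_ ?_) (Set.ncard_image_le (Finset.finite_toSet _))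
  · rintro _ ⟨⟨i, rfl⟩, -, hne, hc⟩
    have hi : (i : ℕ) < 1080 := i.2
    have hv : ((fE.ptF i : Fin 31671) : ℕ) = fE.pt i := Frame.ptF_val valid_E i
    refine ⟨i, Finset.mem_coe.2 (Finset.mem_filter.2 ⟨Finset.mem_range.2 hi, ?_, fun h0 => hne ?_⟩),
      by simp only [dif_pos hi]⟩
    · rw [← hv]; exact (fz_iff _).2 hc.symm
    · rw [Frame.am, ← dd_base]
      exact congrArg dd (Fin.ext (by rw [hv, h0]; rfl))
  · exact (Finset.finite_toSet _).image _

/-- The subgroup of the first class stabilises it. -/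
theorem T1_conj {h t : GG} (hh : h ∈ MM) (ht : t ∈ T1) : h * t * h⁻¹ ∈ T1 := by
  obtain ⟨i, rfl⟩ := ht
  have hi : (i : ℕ) < 1080 := i.2
  rw [am_sp i, conj_dd]
  obtain ⟨j, e, hj⟩ := ψ_act ⟨h, MM_le hh⟩ ⟨i, lt_trans hi (by norm_num)⟩
  have h0 : cl ⟨i, lt_trans hi (by norm_num)⟩ = 0 := Fin.ext (Nat.div_eq_of_lt hi)
  rw [h0] at hj
  have hj0 : cl j = 0 := by
    rw [hj]
    rcases ψ_MM hh (MM_le hh) with h' | h' <;> rw [h'] <;> decide
  have hlt : (j : ℕ) < 1080 := by
    have := congrArg Fin.val hj0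
    simp only [cl, Fin.val_zero] at this
    omega
  rw [e]
  exact ⟨⟨j, hlt⟩, am_sp ⟨j, hlt⟩⟩

theorem T1_trans {t : GG} (ht : t ∈ T1) : ∃ h ∈ MM, h * z * h⁻¹ = t := by
  obtain ⟨i, rfl⟩ := ht
  obtain ⟨j, hj⟩ := z_T1
  obtain ⟨h1, hh1, e1⟩ := first_class_conj i
  obtain ⟨h2, hh2, e2⟩ := first_class_conj j
  refine ⟨h1 * h2⁻¹, mul_mem hh1 (inv_mem hh2), ?_⟩
  rw [← hj, ← e2, ← e1]; group

/-- The commuting graph of the first class is connected. -/
theorem T1_connected {P : GG → Prop} (hz : P z)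
    (hstep : ∀ u ∈ T1, P u → ∀ v ∈ T1, Commute u v → P v) : ∀ t ∈ T1, P t := by
  set R : GG → GG → Prop := fun u v => u ∈ T1 ∧ v ∈ T1 ∧ Commute u v
  have key : ∀ t ∈ T1, Relation.ReflTransGen R z t := by
    have hn : ∀ k : Fin 9, Relation.ReflTransGen R z (xg k) := by
      have h8 : ∀ k ∈ eightIdx, Relation.ReflTransGen R z (xg k) := fun k hk =>
        .single ⟨z_T1, node_T1 k, (eight_nb hk).2.2⟩
      intro k
      by_cases hk : k ∈ eightIdx
      · exact h8 k hk
      · refine (h8 0 (by decide)).tail ⟨node_T1 0, node_T1 k, ?_⟩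
        rw [show k = 6 from (show ∀ k : Fin 9, k ∉ eightIdx → k = 6 by decide) k hk, xg_dd 6]
        refine commute_dd_iff.2 (Fin.ext ?_)
        rw [xg, φ_gen_val (by norm_num), cpt_val (by norm_num)]
        decide +kernel
    have rs : ∀ {u v}, Relation.ReflTransGen R u v → Relation.ReflTransGen R v u := fun {u v} h => by
      induction h with
      | refl => exact .refl
      | tail _ h1 ih => exact .trans (.single ⟨h1.2.1, h1.1, h1.2.2.symm⟩) ih
    have stab : ∀ h ∈ MM, ∀ u v, Relation.ReflTransGen R u v →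
        Relation.ReflTransGen R (h * u * h⁻¹) (h * v * h⁻¹) := fun h hh u v p => by
      induction p with
      | refl => exact .refl
      | tail _ h1 ih => exact ih.tail ⟨T1_conj hh h1.1, T1_conj hh h1.2.1, Basic.commute_conj.2 h1.2.2⟩
    -- the nodes move the first involution within its component
    have fixz : ∀ h ∈ MM, Relation.ReflTransGen R z (h * z * h⁻¹) := by
      intro h hh
      induction hh using Subgroup.closure_induction with
      | mem x hx =>
        obtain ⟨k, rfl⟩ := hx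
        have := stab (xg k) (xg_MM k) _ _ (rs (hn k))
        rw [mul_inv_cancel_right] at this
        exact (hn k).trans this
      | one => simpa using Relation.ReflTransGen.refl
      | mul x y hx hy ihx ihy =>
        have := stab x hx _ _ ihy
        rw [show x * y * z * (x * y)⁻¹ = x * (y * z * y⁻¹) * x⁻¹ by group]
        exact ihx.trans this
      | inv x hx ih =>
        have := stab x⁻¹ (inv_mem hx) _ _ ih
        rw [show x⁻¹ * (x * z * x⁻¹) * x⁻¹⁻¹ = z by group] at this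
        exact rs this
    intro t ht
    obtain ⟨h, hh, rfl⟩ := T1_trans ht
    exact fixz h hh
  intro t ht
  induction key t ht with
  | refl => exact hz
  | tail _ h1 ih => exact hstep _ h1.1 (ih h1.1) _ h1.2.1 h1.2.2

/-- Every member is in the large orbit or commutes with one of the first class. -/
theorem cover {e : GG} (he : e ∈ DD) : e ∈ TT ∨ ∃ v ∈ T1, Commute e v := by
  obtain ⟨c, rfl⟩ := mem_DD.1 he
  obtain ⟨n, hn⟩ : ∃ n, (c : ℕ) = n := ⟨_, rfl⟩
  induction n using Nat.strong_induction_on generalizing c with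
  | _ n ih =>
    have h := upto_four descent_ok c.2
    simp only [okD, Bool.or_eq_true, Bool.and_eq_true, Bool.not_eq_true'] at h
    rcases h with ⟨-, h1, h2⟩ | h
    · left
      refine ⟨⟨_, Nat.blt_eq ▸ h1⟩, congrArg dd (Fin.ext ?_)⟩
      rw [sp_val]
      exact Nat.eq_of_beq_eq_true h2
    obtain ⟨j, hj, h⟩ := upto_false _ h
    simp only [Bool.and_eq_false_iff, Bool.not_eq_false'] at h
    have hj' : Nat.succ j < 10 := by omega
    rcases h with h | h
    · right
      exact ⟨xg ⟨j, hj⟩, node_T1 _, (commute_dd_iff.2 ((fx_iff hj' c).1 h)).symm⟩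
    · set g := xg ⟨j, hj⟩
      set c' := φ g c
      have hlt : (c' : ℕ) < n := by
        show ((φ (data.gen (j + 1)) c : Fin 31671) : ℕ) < n
        rw [φ_gen_val hj', ← hn]
        exact Nat.blt_eq ▸ h
      have hcc : dd c = g⁻¹ * dd c' * g⁻¹⁻¹ := by rw [← conj_dd]; group
      rcases ih _ hlt c' (dd_mem _) rfl with h' | ⟨v, hv, hc'⟩
      · exact Or.inl (hcc ▸ TT_conj (inv_mem (xg_mem _)) h')
      · exact Or.inr ⟨g⁻¹ * v * g⁻¹⁻¹, T1_conj (inv_mem (xg_MM _)) hv,
          hcc ▸ Basic.commute_conj.2 hc'⟩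

/-- A commuting partner for each node. -/
theorem partner (k : Fin 9) : ∃ j : Fin 9, xg j ≠ xg k ∧ Commute (xg k) (xg j) ∧ xg k * xg j ∈ NN := by
  obtain ⟨j, hne, hf⟩ := (show ∀ k : Fin 9, ∃ j : Fin 9, ptG ((j : ℕ) + 1) ≠ ptG ((k : ℕ) + 1) ∧
    fx ((k : ℕ) + 1) (ptG ((j : ℕ) + 1)) = true by decide +kernel) k
  refine ⟨j, fun e => hne ?_, ?_, ?_⟩
  · rw [xg_dd j, xg_dd k] at e
    rw [← cpt_val (show (j : ℕ) + 1 < 10 by omega), ← cpt_val (show (k : ℕ) + 1 < 10 by omega),
      dd_injective e]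
  · rw [xg_dd j]
    refine commute_dd_iff.2 ((fx_iff (by omega) _).1 ?_)
    rwa [cpt_val (by omega)]
  · have h := mul_mem (pair_NN k) (inv_mem (pair_NN j))
    rwa [mul_inv_rev, inv_xg, inv_xg, ← mul_assoc, mul_assoc (xg k), xg_sq, mul_one] at h

theorem NN_le : NN ≤ Subgroup.closure T1 := closure_T1 ▸ NN_le_MM

end Cfsg.Agent.LargeExtra.AutFi24.Model
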