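import Cfsg.Agent.Lib.LargeExtra.AutFi24.Far
import Cfsg.Agent.Lib.ThreeTransp.M22.Eighteen

/-!
There is one component, so the members form a class of 3-transpositions.
-/

set_option autoImplicit false
set_option maxRecDepth 100000
set_option linter.style.haveILetI false
set_option linter.unusedSectionVars false

noncomputable section

namespace Cfsg.Agent.LargeExtra.AutFi24

open Cfsg.Agent.ThreeTransp
open Cfsg.Agent.ThreeTransp.Factor (nb Hd Sd Dq mem_Hd Hd_commute)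
open Cfsg.Agent.ThreeTransp.M22 (IsProd)
open Cfsg.Agent.InvChar.Coset
open Cfsg.Agent.InvChar.Coset.Fi23G Cfsg.Agent.InvChar.Coset.Fi23Out
open Cfsg.Agent.GenA.T23 (Near near_of_commute near_of_common near_symm odd_conj even_invol)

universe u

variable {X : Type u} [Group X] [Finite X] {G₀ : Subgroup X} {D : Set X}

/-- The centraliser of a product of three commuting members in an inner centraliser stabilises the
component. -/
def Stab (G₀ : Subgroup X) (D : Set X) : Prop :=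
  ∀ f ∈ D, ∀ w : ↥(Yl G₀ f), IsProd (El G₀ D f) 3 w → ∀ g : X, Commute g (w : X) →
    Near D f (g * f * g⁻¹)

variable (F : Fr G₀ D)
include F

theorem near_conj (g : X) {d e : X} (h : Near D d e) : Near D (g * d * g⁻¹) (g * e * g⁻¹) := by
  rcases h with rfl | h | ⟨w, h1, h2⟩
  · exact Or.inl rfl
  · exact Or.inr (Or.inl (F.conj_nb g h))
  · exact Or.inr (Or.inr ⟨_, F.conj_nb g h1, F.conj_nb g h2⟩)

theorem near_step {d y e : X} (hd : d ∈ D) (hy : y ∈ D) (h : Near D d y) (he : e ∈ nb D y) :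
    Near D d e := by
  rcases h with rfl | hn | ⟨x, hxd, hxy⟩
  · exact Or.inr (Or.inl he)
  · exact near_of_common hn.1 hn.2.2 he.2.2.symm he.1
  by_cases hdy : Commute d y
  · exact near_of_common hy hdy he.2.2.symm he.1
  obtain ⟨ι, hcls, hS⟩ := exists_orbit F hy hd hdy hxd hxy
  have C : Coord G₀ D y (y * (ι z : X)) ι := ⟨hcls, (F.back hy).symm⟩
  obtain ⟨u, hu, rfl⟩ := C.surj F hy he
  rcases Model.cover hu with hT | ⟨v, hv, hc⟩
  · exact Or.inr (Or.inl ((hS u hu).2 hT))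
  · have hvd := (hS v (Model.T1_sub hv)).2 (Model.T1_TT hv)
    exact near_of_common hvd.1 hvd.2.2 ((C.comm F hy hu (Model.T1_sub hv)).2 hc) he.1

theorem near_trans {d y e : X} (hd : d ∈ D) (hy : y ∈ D) (he : e ∈ D) (h : Near D d y)
    (h' : Near D y e) : Near D d e := by
  rcases h' with rfl | h' | ⟨w, hwy, hwe⟩
  · exact h
  · exact near_step F hd hy h h'
  · exact near_step F hd hwy.1 (near_step F hd hy h hwy) (F.symm he hwe)

/-- Non-commuting members at distance two satisfy the braid relation. -/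
theorem braid_of_near {d e : X} (hd : d ∈ D) (he : e ∈ D) (h : Near D d e) :
    Commute d e ∨ d * e * d = e * d * e := by
  rcases h with rfl | h | ⟨w, hwd, hwe⟩
  · exact Or.inl (Commute.refl _)
  · exact Or.inl h.2.2
  · exact F.braid_nb hwd.1 (F.symm hd hwd) (F.symm he hwe)

/-- A member stabilises no component but its own. -/
theorem component_fix {d f : X} (hd : d ∈ D) (hf : f ∈ D) (h : Near D f (d * f * d)) :
    Near D f d := by
  have hgD : d * f * d ∈ D := by
    have := F.conj d f hf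
    rwa [F.inv hd] at this
  rcases F.comm_or_odd hf hd with hc | hodd
  · exact near_of_commute hd hc
  have h2 : (f * d) * (f * d) = f * (d * f * d) := by simp only [mul_assoc]
  by_cases hc : Commute f (d * f * d)
  · have h4 : (f * d) ^ 4 = 1 := by
      rw [show 4 = 2 * 2 from rfl, pow_mul, pow_two, pow_two, h2, hc.symm.mul_mul_mul_comm,
        F.sq f hf, F.sq _ hgD, one_mul]
    have hdvd := orderOf_dvd_of_pow_eq_one h4
    have h1 : orderOf (f * d) = 1 := by
      have hle := Nat.le_of_dvd (by norm_num) hdvd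
      obtain ⟨j, hj⟩ := hodd
      rcases (show j = 0 ∨ j = 1 by omega) with rfl | rfl
      · omega
      · rw [hj] at hdvd; norm_num at hdvd
    rw [orderOf_eq_one_iff] at h1
    exact Or.inl (by rw [← inv_eq_of_mul_eq_one_right h1, F.inv hf])
  have hbr := (braid_of_near F hf hgD h).resolve_left hc
  have h6 : (f * d) ^ 6 = 1 := by
    rw [show 6 = 2 * 3 from rfl, pow_mul, pow_two, h2, pow_three]
    calc f * (d * f * d) * (f * (d * f * d) * (f * (d * f * d)))
        = (f * (d * f * d) * f) * ((d * f * d) * f * (d * f * d)) := by simp only [mul_assoc]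
      _ = 1 := by
        rw [← hbr, show f * (d * f * d) * f * (f * (d * f * d) * f) =
          f * (d * f * d) * (f * f) * ((d * f * d) * f) by simp only [mul_assoc], F.sq f hf,
          mul_one, show f * (d * f * d) * (d * f * d * f) =
          f * ((d * f * d) * (d * f * d)) * f by simp only [mul_assoc], F.sq _ hgD, mul_one,
          F.sq f hf]
  have h3 : orderOf (f * d) ∣ 3 := by
    have hdvd := orderOf_dvd_of_pow_eq_one h6
    rw [show 6 = 2 * 3 from rfl] at hdvd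
    exact (Nat.Coprime.dvd_of_dvd_mul_left (Nat.coprime_two_right.2 hodd) hdvd)
  have hg : d * f * d = f * d * f :=
    (Basic.braid_of_cube (F.sq f hf) (F.sq d hd) (orderOf_dvd_iff_pow_eq_one.1 h3)).symm
  rw [hg] at h
  have := near_conj F f h
  rwa [mul_inv_cancel_right, show f * (f * d * f) * f⁻¹ = (f * f) * d * (f * f⁻¹) by
    simp only [mul_assoc], F.sq f hf, mul_inv_cancel, one_mul, mul_one] at this

/-- An involution exchanging a commuting pair fixes one of its common neighbours. -/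
theorem exists_fix {a x w : X} (ha : a ∈ D) (hx : x ∈ nb D a) (hw : w * w = 1)
    (h : w * a * w⁻¹ = x) : ∃ m ∈ nb D a ∩ nb D x, Commute w m := by
  classical
  have hwi : w⁻¹ = w := inv_eq_of_mul_eq_one_right hw
  have htt : ∀ g, w * (w * g * w⁻¹) * w⁻¹ = g := fun g => by
    rw [show w * (w * g * w⁻¹) * w⁻¹ = (w * w) * g * (w * w)⁻¹ by group, hw]; group
  have hxa : w * x * w⁻¹ = a := by rw [← h, htt]
  set t := F.yv ha hx with ht
  have htE : t ∈ El G₀ D a := F.yv_mem ha hx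
  have hwt : w * (t : X) * w⁻¹ = (t : X) := by
    rw [ht, F.val_yv, show w * (a * x) * w⁻¹ = (w * a * w⁻¹) * (w * x * w⁻¹) by group, h, hxa,
      hx.2.2.eq]
  have B := F.base ha
  set H := Hd (El G₀ D a) t with hH
  have hcen : ∀ g : ↥(Yl G₀ a), g ∈ H ↔ Commute g t := fun g => by
    rw [hH, ← B.cent t htE, Subgroup.mem_centralizer_singleton_iff]
    rfl
  have hmap : ∀ g : ↥(Yl G₀ a), g ∈ H → w * (g : X) * w⁻¹ ∈ Yl G₀ a := by
    intro g hg
    refine mem_Yl.2 ⟨(Subgroup.normal_of_index_eq_two F.idx).conj_mem _ g.2.1 w, ?_⟩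
    have h1 : Commute (t : X) (g : X) := congrArg Subtype.val ((hcen g).1 hg).symm.eq
    have h2 : Commute x (g : X) := by
      have := (mem_Yl.1 g.2).2.mul_left h1
      rwa [ht, F.val_yv, F.back ha] at this
    have := (Basic.commute_conj (g := w)).2 h2
    rwa [hxa] at this
  have hφ : ∀ g : ↥H, (⟨_, hmap g g.2⟩ : ↥(Yl G₀ a)) ∈ H := fun g => (hcen _).2 (Subtype.ext (by
    show w * ((g : ↥(Yl G₀ a)) : X) * w⁻¹ * (t : X) = (t : X) * (w * ((g : ↥(Yl G₀ a)) : X) * w⁻¹)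
    have := (Basic.commute_conj (g := w)).2
      (show Commute ((g : ↥(Yl G₀ a)) : X) (t : X) from congrArg Subtype.val ((hcen _).1 g.2).eq)
    rw [hwt] at this
    exact this.eq))
  let φ : ↥H ≃* ↥H :=
    { toFun := fun g => ⟨_, hφ g⟩
      invFun := fun g => ⟨_, hφ g⟩
      left_inv := fun g => Subtype.ext (Subtype.ext (htt _))
      right_inv := fun g => Subtype.ext (Subtype.ext (htt _))
      map_mul' := fun g g' => Subtype.ext (Subtype.ext (by
        show w * (((g : ↥(Yl G₀ a)) : X) * ((g' : ↥(Yl G₀ a)) : X)) * w⁻¹ = _ * _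
        simp only [mul_assoc, inv_mul_cancel_left])) }
  have hφ2 : ∀ g, φ (φ g) = g := fun g => φ.left_inv g
  have hcz : (Subgroup.center ↥H).map (φ : ↥H →* ↥H) = Subgroup.center ↥H := by
    ext g
    rw [Subgroup.mem_map]
    constructor
    · rintro ⟨c, hc, rfl⟩
      exact (Subgroup.mem_center_iff).2 fun k => by
        have := congrArg φ (Subgroup.mem_center_iff.1 hc (φ k))
        simpa [hφ2] using this
    · intro hg
      refine ⟨φ g, Subgroup.mem_center_iff.2 fun k => ?_, hφ2 g⟩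
      have := congrArg φ (Subgroup.mem_center_iff.1 hg (φ k))
      simpa [hφ2] using this
  let ψ := QuotientGroup.congr (Subgroup.center ↥H) (Subgroup.center ↥H) φ hcz
  have hψ : ∀ g : ↥H, ψ (QuotientGroup.mk g) = QuotientGroup.mk (φ g) := fun _ => rfl
  have htH : t ∈ H := (hcen t).2 (Commute.refl t)
  have htz : (QuotientGroup.mk (⟨t, htH⟩ : ↥H) : Sd (El G₀ D a) t) = 1 :=
    (QuotientGroup.eq_one_iff _).2 (Subgroup.mem_center_iff.2 fun k =>
      Subtype.ext ((hcen _).1 k.2).eq)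
  -- the image of a common neighbour
  have image : ∀ {m : X} (hm : m ∈ nb D a), F.yv ha hm ∈ nb (El G₀ D a) t →
      ∃ (h' : w * m * w⁻¹ ∈ nb D a) (hn : F.yv ha h' ∈ nb (El G₀ D a) t),
        ∀ hn' : F.yv ha hm ∈ nb (El G₀ D a) t, ψ (M23.im hn') = M23.im hn := by
    intro m hm hn
    have hmx : m ∈ nb D x := ⟨hm.1, fun e => hn.2.1 (Subtype.ext (by rw [ht, F.val_yv, F.val_yv, e])),
      (F.yv_commute ha hx hm).1 hn.2.2⟩
    have h1 : w * m * w⁻¹ ∈ nb D a := hxa ▸ F.conj_nb w hmx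
    have h2 : w * m * w⁻¹ ∈ nb D x := h ▸ F.conj_nb w hm
    have hn1 : F.yv ha h1 ∈ nb (El G₀ D a) t :=
      ⟨F.yv_mem ha h1, fun e => h2.2.1 (F.yv_inj ha h1 hx e), (F.yv_commute ha hx h1).2 h2.2.2⟩
    refine ⟨h1, hn1, fun hn' => ?_⟩
    have e : φ ⟨F.yv ha hm, mem_Hd hn'⟩ = ⟨t, htH⟩ * ⟨F.yv ha h1, mem_Hd hn1⟩ := Subtype.ext
      (Subtype.ext (by
        show w * (a * m) * w⁻¹ = a * x * (a * (w * m * w⁻¹))
        rw [show w * (a * m) * w⁻¹ = (w * a * w⁻¹) * (w * m * w⁻¹) by group, h, hx.2.2.eq,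
          mul_assoc x a, F.back ha]))
    show ψ (QuotientGroup.mk _) = _
    rw [hψ, e, QuotientGroup.mk_mul, htz, one_mul]
    rfl
  obtain ⟨Y, hY, hfY⟩ := M22.exists_fixed_of_aut (M23.grp (F.grp a ha) B htE) (B.prim t htE)
    (B.m22 t htE) ψ (fun q => by
      induction q using QuotientGroup.induction_on with
      | H g => rw [hψ, hψ, hφ2]) (fun q hq => by
      obtain ⟨y, hy, rfl⟩ := M23.exists_pre hq
      obtain ⟨m, hm, rfl⟩ := F.pre ha hy.1
      obtain ⟨h1, hn1, e⟩ := image hm hy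
      rw [e hy]
      exact M23.im_mem hn1)
  obtain ⟨y, hy, rfl⟩ := M23.exists_pre hY
  obtain ⟨m, hm, rfl⟩ := F.pre ha hy.1
  obtain ⟨h1, hn1, e⟩ := image hm hy
  rw [e hy] at hfY
  have hmm : w * m * w⁻¹ = m :=
    F.yv_inj ha h1 hm (M23.im_inj (F.grp a ha) B htE hn1 hy hfY)
  exact ⟨m, ⟨hm, hm.1, fun e => hy.2.1 (Subtype.ext (by rw [ht, F.val_yv, F.val_yv, e])),
    (F.yv_commute ha hx hm).1 hy.2.2⟩, M22.conj_eq_self_iff.1 hmm⟩

variable (hz : Stab G₀ D)
include hz

theorem all_near {d f : X} (hd : d ∈ D) (hf : f ∈ D) : Near D d f := by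
  by_contra hno
  obtain ⟨x, hx⟩ := F.exists_nb hd
  have hv2 : d * x * (d * x) = 1 := by
    rw [hx.2.2.symm.mul_mul_mul_comm, F.sq d hd, F.sq x hx.1, one_mul]
  have hout : d * x * f ∉ G₀ := fun h =>
    F.out f hf ((Subgroup.mul_mem_cancel_left G₀ (F.mul_mem (F.out d hd) (F.out x hx.1))).1 h)
  have hev : Even (orderOf (d * x * f)) := by
    refine Nat.not_odd_iff_even.1 fun ⟨j, hj⟩ => hout ?_
    have hsq : (d * x * f) ^ (2 * (j + 1)) = d * x * f := by
      rw [show 2 * (j + 1) = orderOf (d * x * f) + 1 by omega, pow_succ, pow_orderOf_eq_one, one_mul]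
    rw [← hsq, pow_mul, pow_two]
    exact pow_mem ((Subgroup.mul_mem_iff_of_index_two F.idx).2 Iff.rfl) _
  obtain ⟨w, hw2, hw1, hwv, hwf⟩ := even_invol hv2 (F.sq f hf) hev
  have hwi : w⁻¹ = w := inv_eq_of_mul_eq_one_right hw2
  -- a member of the component commuting with the involution
  obtain ⟨c, hc, hdc, hwc⟩ : ∃ c, c ∈ D ∧ Near D d c ∧ Commute w c := by
    have hwt : w * d * w⁻¹ * (w * x * w⁻¹) = d * x := by
      rw [show w * d * w⁻¹ * (w * x * w⁻¹) = w * (d * x) * w⁻¹ by group, hwv.symm.eq,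
        mul_inv_cancel_right]
    rcases F.pair_unique d hd x hx _ (F.conj w d hd) _ (F.conj_nb w hx) hwt with h | h
    · exact ⟨d, hd, Or.inl rfl, M22.conj_eq_self_iff.1 h⟩
    · obtain ⟨m, hm, hwm⟩ := exists_fix F hd hx hw2 h
      exact ⟨m, hm.1.1, Or.inr (Or.inl hm.1), hwm⟩
  have sep : ∀ {p}, p ∈ D → Near D f p → ¬ Commute c p := fun hp hfp hcp =>
    hno (near_trans F hd hp hf (near_trans F hd hc hp hdc (near_of_commute hp hcp))
      (near_symm hf hfp))
  have near_p : ∀ {p}, (p = f ∨ p ∈ nb D f) → Near D f p := fun h =>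
    h.elim (fun e => Or.inl e.symm) fun h => Or.inr (Or.inl h)
  by_cases hwG : w ∈ G₀
  · rcases F.inner_cases hf (mem_Yl.2 ⟨hwG, hwf⟩) hw2 hw1 with ⟨p, q, hp, hpD, -, hq, e⟩ | h
    · exact sep hpD (near_p hp) (F.pair_split hpD hq hc (e ▸ hwc.symm)).1
    · have := hz f hf _ h c hwc.symm
      rw [F.inv hc] at this
      exact sep hc (component_fix F hc hf this) (Commute.refl c)
  rcases F.outer_cases hf hwG hwf hw2 with hwD | ⟨p, q, r, hp, hpD, hq, hr, hrq, hw⟩
  · exact sep hwD (near_of_commute hwD hwf) hwc.symm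
  have hfp := near_p hp
  obtain ⟨C, hCq, hCr⟩ := Set.nonempty_of_ncard_ne_zero
    ((GenA.Tower.M23.ncard_one (F.grp p hpD) (F.prim p hpD) (F.m23 p hpD) (F.yv_mem hpD hq)
      (x := F.yv hpD hr) ⟨F.yv_mem hpD hr, fun e => hrq.2.1 (F.yv_inj hpD hr hq e),
        (F.yv_commute hpD hq hr).2 hrq.2.2⟩).trans_ne (by norm_num : (693 : ℕ) ≠ 0))
  obtain ⟨b, hb, rfl⟩ := F.pre hpD hCq.1
  have hbq : b ∈ nb D q := ⟨hb.1, fun e => hCq.2.1 (Subtype.ext (by rw [F.val_yv, F.val_yv, e])),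
    (F.yv_commute hpD hq hb).1 hCq.2.2⟩
  have hbr : b ∈ nb D r := ⟨hb.1, fun e => hCr.2.1 (Subtype.ext (by rw [F.val_yv, F.val_yv, e])),
    (F.yv_commute hpD hr hb).1 hCr.2.2⟩
  have hfb : Near D f b := near_step F hf hpD hfp hb
  have hwp : Commute w p := hw ▸
    ((Commute.refl p).mul_left hq.2.2.symm).mul_left hr.2.2.symm
  have hwb : Commute w b := hw ▸
    (hb.2.2.mul_left hbq.2.2).mul_left hbr.2.2
  obtain ⟨g₁, hg₁, hg₁c⟩ := odd_conj (F.sq c hc) (F.sq p hpD)
    ((F.comm_or_odd hc hpD).resolve_left (sep hpD hfp))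
  obtain ⟨g₂, hg₂, hg₂c⟩ := odd_conj (F.sq c hc) (F.sq b hb.1)
    ((F.comm_or_odd hc hb.1).resolve_left (sep hb.1 hfb))
  set g := g₂⁻¹ * g₁ with hg
  have hgp : g * p * g⁻¹ = b := by
    rw [hg, show g₂⁻¹ * g₁ * p * (g₂⁻¹ * g₁)⁻¹ = g₂⁻¹ * (g₁ * p * g₁⁻¹) * g₂ by group, hg₁, ← hg₂]
    group
  have hgw : Commute w g := (hg₂c w hwc hwb).inv_right.mul_right (hg₁c w hwc hwp)
  have hq' : g * q * g⁻¹ ∈ nb D b := hgp ▸ F.conj_nb g hq
  have hr' : g * r * g⁻¹ ∈ nb D (g * q * g⁻¹) := F.conj_nb g hrq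
  have pn := F.symm hpD hb
  have qn := F.symm hq.1 hbq
  have rn := F.symm hr.1 hbr
  have e : b * w = g * q * g⁻¹ * (g * r * g⁻¹) := by
    have : w = b * (g * q * g⁻¹ * (g * r * g⁻¹)) := by
      rw [← mul_inv_cancel_right w g, hgw.eq, hw, ← hgp]
      group
    conv_lhs => rw [this]
    rw [F.back hb.1]
  refine F.not_four _ hq'.1 _ hr' b hb.1 (F.yv hb.1 pn * F.yv hb.1 qn * F.yv hb.1 rn)
    ⟨[F.yv hb.1 pn, F.yv hb.1 qn, F.yv hb.1 rn], ?_, rfl, ?_, ?_, by simp [mul_assoc]⟩ ?_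
  · simp only [List.nodup_cons, List.mem_cons, List.not_mem_nil, or_false, not_or,
      List.nodup_nil, and_true, not_false_eq_true]
    exact ⟨⟨fun e' => hq.2.1 (F.yv_inj _ pn qn e').symm, fun e' => hr.2.1 (F.yv_inj _ pn rn e').symm⟩,
      fun e' => hrq.2.1 (F.yv_inj _ qn rn e').symm⟩
  · simp [F.yv_mem hb.1 pn, F.yv_mem hb.1 qn, F.yv_mem hb.1 rn]
  · simp only [List.mem_cons, List.not_mem_nil, or_false, forall_eq_or_imp, forall_eq]
    have c1 := (F.yv_commute hb.1 pn qn).2 hq.2.2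
    have c2 := (F.yv_commute hb.1 pn rn).2 hr.2.2
    have c3 := (F.yv_commute hb.1 qn rn).2 hrq.2.2
    exact ⟨⟨Commute.refl _, c1, c2⟩, ⟨c1.symm, Commute.refl _, c3⟩, ⟨c2.symm, c3.symm, Commute.refl _⟩⟩
  · rw [← e, Subgroup.coe_mul, F.yv_mul, F.val_yv, hw, ← mul_assoc (p * q),
      (pn.2.2.mul_right qn.2.2).symm.eq]
    simp only [mul_assoc]

theorem three_set : Cfsg.IsThreeTranspositionSet D := by
  refine ⟨fun a ha => F.order ha, fun a ha b hb => ?_⟩
  rcases braid_of_near F ha hb (all_near F hz ha hb) with h | h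
  · left
    rw [pow_two, h.symm.mul_mul_mul_comm, F.sq a ha, F.sq b hb, one_mul]
  · right
    calc (a * b) ^ 3 = (a * b * a) * (b * a * b) := by rw [pow_three]; simp only [mul_assoc]
      _ = 1 := by
        rw [← h, show a * b * a * (a * b * a) = a * (b * (a * a) * b) * a by simp only [mul_assoc],
          F.sq a ha, mul_one, F.sq b hb, mul_one, F.sq a ha]

omit hz in
theorem mem_closure {a : X} (ha : a ∈ D) {g : X} (hg : Commute a g) : g ∈ Subgroup.closure D := by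
  have inner : ∀ h : X, h ∈ Yl G₀ a → h ∈ Subgroup.closure D := by
    intro h hh
    have hin : (⟨h, hh⟩ : ↥(Yl G₀ a)) ∈ Subgroup.closure (El G₀ D a) :=
      (F.grp a ha).2.2.symm ▸ Subgroup.mem_top _
    have hle : Subgroup.closure (El G₀ D a) ≤ (Subgroup.closure D).subgroupOf (Yl G₀ a) := by
      rw [Subgroup.closure_le]
      intro y hy
      obtain ⟨x, hx, rfl⟩ := F.pre ha hy
      exact mul_mem (Subgroup.subset_closure ha) (Subgroup.subset_closure hx.1)
    exact hle hin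
  by_cases h : g ∈ G₀
  · exact inner g (mem_Yl.2 ⟨h, hg⟩)
  · rw [← F.back ha (x := g)]
    exact mul_mem (Subgroup.subset_closure ha)
      (inner _ (mem_Yl.2 ⟨F.mul_mem (F.out a ha) h, (Commute.refl a).mul_right hg⟩))

theorem closure_top (hne : D.Nonempty) : Subgroup.closure D = ⊤ := by
  set K := Subgroup.closure D with hK
  have adj : ∀ a ∈ D, ∀ x ∈ nb D a, ∃ k ∈ K, k * a * k⁻¹ = x := by
    intro a ha x hx
    obtain ⟨Q, hQ⟩ := Set.nonempty_of_ncard_ne_zero
      ((GenA.Tower.M23.ncard_nb (F.grp a ha) (F.prim a ha) (F.m23 a ha) (F.yv_mem ha hx)).trans_ne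
        (by norm_num : (3510 : ℕ) ≠ 0))
    obtain ⟨y, hy, rfl⟩ := F.pre ha hQ.1
    have an := F.symm ha hy
    have xn : x ∈ nb D y := ⟨hx.1, fun e => hQ.2.1 (Subtype.ext (by rw [F.val_yv, F.val_yv, e])),
      ((F.yv_commute ha hx hy).1 hQ.2.2).symm⟩
    obtain ⟨k, hk⟩ := (F.prim y hy.1).1 _ (F.yv_mem hy.1 an) _ (F.yv_mem hy.1 xn)
    refine ⟨k, mem_closure F hy.1 (mem_Yl.1 k.2).2, ?_⟩
    have h' := congrArg Subtype.val hk
    rw [Subgroup.coe_mul, Subgroup.coe_mul, Subgroup.coe_inv, F.val_yv, F.val_yv,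
      show (k : X) * (y * a) * (k : X)⁻¹ = (k : X) * y * (k : X)⁻¹ * ((k : X) * a * (k : X)⁻¹) by group,
      M22.conj_eq_self_iff.2 (mem_Yl.1 k.2).2.symm] at h'
    exact mul_left_cancel h'
  have link : ∀ a ∈ D, ∀ b ∈ D, ∃ k ∈ K, k * a * k⁻¹ = b := by
    intro a ha b hb
    rcases all_near F hz ha hb with rfl | h | ⟨w, hwa, hwb⟩
    · exact ⟨1, one_mem K, by group⟩
    · exact adj a ha b h
    · obtain ⟨k, hk, rfl⟩ := adj a ha w hwa
      obtain ⟨k', hk', rfl⟩ := adj _ hwa.1 b (F.symm hb hwb)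
      exact ⟨k' * k, mul_mem hk' hk, by group⟩
  rw [eq_top_iff]
  intro g _
  obtain ⟨a, ha⟩ := hne
  obtain ⟨k, hk, hka⟩ := link _ (F.conj g a ha) a ha
  have : k * g ∈ K := mem_closure F ha (M22.conj_eq_self_iff.1 (by
    rw [show k * g * a * (k * g)⁻¹ = k * (g * a * g⁻¹) * k⁻¹ by group, hka])).symm
  simpa using mul_mem (inv_mem hk) this

theorem grp (hne : D.Nonempty) : Cfsg.IsThreeTranspositionGroup D :=
  ⟨three_set F hz, F.conj, closure_top F hz hne⟩

end Cfsg.Agent.LargeExtra.AutFi24
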