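import Cfsg.Agent.Lib.ThreeTransp.M23Fi23.LStab

/-!
Computations on the points of the presented group Fi23 relative to the large subgroup.
-/

set_option autoImplicit false
set_option maxRecDepth 100000
set_option Elab.async false

noncomputable section

namespace Cfsg.Agent.LargeExtra.AutFi24.Scans

open Cfsg.Agent.ThreeTransp.M23Fi23
open Cfsg.Agent.CosetCert
open Cfsg.Agent.InvChar.Coset
open Cfsg.Agent.InvChar.Coset.TreePerm (rd nthT)
open Cfsg.Agent.InvChar.Coset.Fi23G (permList)

/-- Fixed by a permutation. -/
def fx (k c : ℕ) : Bool := Nat.beq (rd (nthT permList k) c) c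

/-- Lowered by a permutation. -/
def down (k c : ℕ) : Bool := Nat.blt (rd (nthT permList k) c) c

/-- Fixed by the eight generators fixing the first point. -/
def eight (c : ℕ) : Bool :=
  fx 1 c && (fx 2 c && (fx 3 c && (fx 4 c && (fx 5 c && (fx 6 c && (fx 8 c && fx 9 c))))))

def okA (c : ℕ) : Bool := !(eight c) || fx 17 c

def okT (i : ℕ) : Bool := !(fx 17 (spt (Nat.add 1080 i)))

def okD (c : ℕ) : Bool :=
  (!(Nat.beq (spos c) 0) && (Nat.blt (Nat.sub (spos c) 1) 3240 && Nat.beq (spt (Nat.sub (spos c) 1)) c)) ||
    (!(upto (fun j => !(fx (Nat.succ j) c) && !(down (Nat.succ j) c)) 9))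

/-- The count of the first class fixed by the first involution. -/
def cntM : ℕ → ℕ
  | 0 => 0
  | i + 1 => (Bool.rec (cntM i) (Nat.succ (cntM i)) (fx 17 (fE.pt i) && !(Nat.beq (fE.pt i) 0)) : ℕ)

theorem eight_ok : (upto okA 8000 && (upto (fun i => okA (Nat.add 8000 i)) 8000 &&
    (upto (fun i => okA (Nat.add 16000 i)) 8000 && upto (fun i => okA (Nat.add 24000 i)) 7671))) = true := by
  decide +kernel

theorem others_ok : upto okT 2160 = true := by decide +kernel

theorem count_ok : cntM 1080 = 351 := by decide +kernel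

theorem descent_ok : (upto okD 8000 && (upto (fun i => okD (Nat.add 8000 i)) 8000 &&
    (upto (fun i => okD (Nat.add 16000 i)) 8000 && upto (fun i => okD (Nat.add 24000 i)) 7671))) = true := by
  decide +kernel

theorem upto_false : ∀ {f : ℕ → Bool} (m : ℕ), upto f m = false → ∃ i < m, f i = false
  | f, 0, h => absurd h (by simp [upto])
  | f, m + 1, h => by
    simp only [upto, Bool.and_eq_false_iff] at h
    rcases h with h | h
    · exact ⟨m, by omega, h⟩
    · obtain ⟨i, hi, h⟩ := upto_false m h
      exact ⟨i, by omega, h⟩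

theorem upto_four {f : ℕ → Bool}
    (h : (upto f 8000 && (upto (fun i => f (Nat.add 8000 i)) 8000 &&
      (upto (fun i => f (Nat.add 16000 i)) 8000 && upto (fun i => f (Nat.add 24000 i)) 7671))) = true)
    {c : ℕ} (hc : c < 31671) : f c = true := by
  simp only [Bool.and_eq_true] at h
  obtain ⟨h1, h2, h3, h4⟩ := h
  by_cases c1 : c < 8000
  · exact upto_spec _ h1 c c1
  by_cases c2 : c < 16000
  · have := upto_spec _ h2 (c - 8000) (by omega)
    rwa [show Nat.add 8000 (c - 8000) = c by simp only [Nat.add_eq]; omega] at this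
  by_cases c3 : c < 24000
  · have := upto_spec _ h3 (c - 16000) (by omega)
    rwa [show Nat.add 16000 (c - 16000) = c by simp only [Nat.add_eq]; omega] at this
  · have := upto_spec _ h4 (c - 24000) (by omega)
    rwa [show Nat.add 24000 (c - 24000) = c by simp only [Nat.add_eq]; omega] at this

end Cfsg.Agent.LargeExtra.AutFi24.Scans
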