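import Cfsg.Agent.Lib.LargeExtra.AutFi24.One
import Cfsg.Agent.GenA.Tower.Transport

/-!
The class is of type M(24).
-/

set_option autoImplicit false
set_option maxRecDepth 100000
set_option linter.style.haveILetI false
set_option linter.unusedSectionVars false

noncomputable section

namespace Cfsg.Agent.LargeExtra.AutFi24

open Cfsg.Agent.ThreeTransp
open Cfsg.Agent.ThreeTransp.Factor (nb Hd Sd Dq mem_Hd Hd_commute)
open Cfsg.Agent.ThreeTransp.M23Fi23
open Cfsg.Agent.InvChar.Coset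
open Cfsg.Agent.InvChar.Coset.Fi23G Cfsg.Agent.InvChar.Coset.Fi23Out

attribute [local instance] Classical.propDecidable Model.finite

universe u

variable {X : Type u} [Group X] [Finite X] {G₀ : Subgroup X} {D : Set X}
variable (F : Fr G₀ D)
include F

theorem inner_ite {a : X} (ha : a ∈ D) {g : X} (hg : Commute a g) :
    (if g ∈ G₀ then g else a * g) ∈ Yl G₀ a := by
  by_cases h : g ∈ G₀
  · rw [if_pos h]; exact mem_Yl.2 ⟨h, hg⟩
  · rw [if_neg h]
    exact mem_Yl.2 ⟨F.mul_mem (F.out a ha) h, (Commute.refl a).mul_right hg⟩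

/-- The projection of the local subgroup to the inner centraliser. -/
def Fr.proj {a : X} (ha : a ∈ D) : ↥(Hd D a) →* ↥(Yl G₀ a) :=
  MonoidHom.mk' (fun g => ⟨_, inner_ite F ha (Hd_commute g.2)⟩) fun g h => by
    refine Subtype.ext ?_
    have hc : a * (g : X) = (g : X) * a := (Hd_commute g.2).eq
    show (if ((g : X) * h) ∈ G₀ then ((g : X) * h) else a * ((g : X) * h)) =
      (if (g : X) ∈ G₀ then (g : X) else a * g) * (if (h : X) ∈ G₀ then (h : X) else a * h)
    by_cases hg : (g : X) ∈ G₀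
    · rw [if_pos hg]
      by_cases hh : (h : X) ∈ G₀
      · rw [if_pos hh, if_pos (G₀.mul_mem hg hh)]
      · rw [if_neg hh, if_neg fun e => hh ((Subgroup.mul_mem_cancel_left G₀ hg).1 e),
          ← mul_assoc, hc, mul_assoc]
    · rw [if_neg hg]
      by_cases hh : (h : X) ∈ G₀
      · rw [if_pos hh, if_neg fun e => hg ((Subgroup.mul_mem_cancel_right G₀ hh).1 e), mul_assoc]
      · rw [if_neg hh, if_pos (F.mul_mem hg hh), hc, mul_assoc, F.back ha]

theorem Fr.proj_gen {a : X} (ha : a ∈ D) {x : X} (hx : x ∈ nb D a) (h : x ∈ Hd D a) :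
    F.proj ha ⟨x, h⟩ = F.yv ha hx :=
  Subtype.ext (if_neg (F.out x hx.1))

theorem Fr.proj_surj {a : X} (ha : a ∈ D) : Function.Surjective (F.proj ha) := by
  rw [← MonoidHom.range_eq_top, eq_top_iff, ← (F.grp a ha).2.2, Subgroup.closure_le]
  intro y hy
  obtain ⟨x, hx, rfl⟩ := F.pre ha hy
  exact ⟨⟨x, mem_Hd hx⟩, F.proj_gen ha hx _⟩

theorem Fr.proj_ker {a : X} (ha : a ∈ D) {g : ↥(Hd D a)} (h : F.proj ha g = 1) :
    (g : X) = 1 ∨ (g : X) = a := by
  have h' : (if (g : X) ∈ G₀ then (g : X) else a * g) = 1 := congrArg Subtype.val h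
  by_cases hg : (g : X) ∈ G₀
  · rw [if_pos hg] at h'; exact Or.inl h'
  · rw [if_neg hg] at h'
    exact Or.inr ((inv_eq_of_mul_eq_one_right h').symm.trans (F.inv ha))

theorem local_iso {a : X} (ha : a ∈ D) : ∃ e : Sd D a ≃* ↥(Yl G₀ a), e '' Dq D a = El G₀ D a := by
  have hker : (F.proj ha).ker = Subgroup.center ↥(Hd D a) := by
    ext g
    rw [MonoidHom.mem_ker, Subgroup.mem_center_iff]
    constructor
    · intro h k
      rcases F.proj_ker ha h with e | e
      · exact Subtype.ext (by simp [e])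
      · exact Subtype.ext (show (k : X) * g = g * k by rw [e]; exact (Hd_commute k.2).eq.symm)
    · intro h
      have : F.proj ha g ∈ Subgroup.center ↥(Yl G₀ a) := Subgroup.mem_center_iff.2 fun q => by
        obtain ⟨k, rfl⟩ := F.proj_surj ha q
        rw [← map_mul, h k, map_mul]
      rwa [(F.m23 a ha).1, Subgroup.mem_bot] at this
  let e : Sd D a ≃* ↥(Yl G₀ a) := (QuotientGroup.quotientMulEquivOfEq hker.symm).trans
    (QuotientGroup.quotientKerEquivOfSurjective _ (F.proj_surj ha))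
  refine ⟨e, ?_⟩
  ext q
  constructor
  · rintro ⟨_, ⟨g, hg, rfl⟩, rfl⟩
    show F.proj ha g ∈ El G₀ D a
    rw [show g = ⟨(g : X), mem_Hd hg⟩ from rfl, F.proj_gen ha hg]
    exact F.yv_mem ha hg
  · intro hq
    obtain ⟨x, hx, rfl⟩ := F.pre ha hq
    exact ⟨_, ⟨⟨x, mem_Hd hx⟩, hx, rfl⟩, F.proj_gen ha hx (mem_Hd hx)⟩

theorem center_bot (hne : D.Nonempty) : Subgroup.center X = ⊥ := by
  obtain ⟨a, ha⟩ := hne
  rw [Subgroup.eq_bot_iff_forall]
  intro v hv
  have hvc : ∀ g, Commute v g := fun g => (Subgroup.mem_center_iff.1 hv g).symm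
  have key : ∀ w, Commute a w → (∀ g ∈ Yl G₀ a, Commute w g) → w ∈ G₀ → w = 1 := fun w hw h hG => by
    have : (⟨w, mem_Yl.2 ⟨hG, hw⟩⟩ : ↥(Yl G₀ a)) ∈ Subgroup.center ↥(Yl G₀ a) :=
      Subgroup.mem_center_iff.2 fun g => Subtype.ext (h g g.2).eq.symm
    rw [(F.m23 a ha).1, Subgroup.mem_bot] at this
    exact congrArg Subtype.val this
  by_cases hvG : v ∈ G₀
  · exact key v (hvc a).symm (fun g _ => hvc g) hvG
  exfalso
  have h := key (a * v) ((Commute.refl a).mul_right (hvc a).symm)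
    (fun g hg => (mem_Yl.1 hg).2.mul_left (hvc g)) (F.mul_mem (F.out a ha) hvG)
  have hva : v = a := by rw [← inv_eq_of_mul_eq_one_right h, F.inv ha]
  obtain ⟨x, hx⟩ := F.exists_nb ha
  obtain ⟨g, hg⟩ := F.trans a ha x hx.1
  rw [← hva, (hvc g).symm.eq, mul_inv_cancel_right] at hg
  exact hx.2.1 (hg.symm.trans hva)

/-- The common neighbours of two non-commuting members with a common neighbour generate the large
subgroup. -/
theorem pair_iso {y x d : X} (hy : y ∈ D) (hd : d ∈ D) (hnc : ¬ Commute d y) (hxd : x ∈ nb D d)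
    (hxy : x ∈ nb D y) : Nonempty (↥(Subgroup.closure (nb D d ∩ nb D y)) ≃* ↥LL) := by
  obtain ⟨ι, hcls, hS⟩ := exists_orbit F hy hd hnc hxd hxy
  have C : Coord G₀ D y (y * (ι z : X)) ι := ⟨hcls, (F.back hy).symm⟩
  set L := Subgroup.closure (nb D d ∩ nb D y) with hL
  have hle : L ≤ Hd D y := Subgroup.closure_mono Set.inter_subset_right
  let f : ↥L →* GG := ι.symm.toMonoidHom.comp ((F.proj hy).comp (Subgroup.inclusion hle))
  have hinj : Function.Injective f := by
    rw [injective_iff_map_eq_one]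
    intro g hg
    have h1 : F.proj hy (Subgroup.inclusion hle g) = 1 := ι.symm.injective (hg.trans (map_one _).symm)
    rcases F.proj_ker hy h1 with e | e
    · exact Subtype.ext e
    · exfalso
      refine hnc ?_
      have hc : L ≤ Subgroup.centralizer ({d} : Set X) := (Subgroup.closure_le _).2 fun m hm =>
        Subgroup.mem_centralizer_singleton_iff.2 hm.1.2.2.eq.symm
      have := Subgroup.mem_centralizer_singleton_iff.1 (hc g.2)
      have e' : (g : X) = y := e
      rw [e'] at this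
      exact this.symm
  have hgen : ∀ {m : X} (hm : m ∈ nb D d ∩ nb D y),
      f ⟨m, Subgroup.subset_closure hm⟩ = ι.symm (F.yv hy hm.2) := fun hm =>
    congrArg ι.symm (F.proj_gen hy hm.2 (mem_Hd hm.2))
  have hr : f.range = LL := by
    refine le_antisymm ?_ ?_
    · rintro _ ⟨⟨g, hg⟩, rfl⟩
      induction hg using Subgroup.closure_induction with
      | mem m hm =>
        obtain ⟨u, hu, rfl⟩ := C.surj F hy hm.2
        rw [hgen hm, ← C.eq_yv F hy hu, ι.symm_apply_apply]
        exact TT_sub ((hS u hu).1 hm.1)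
      | one => exact (map_one f).symm ▸ one_mem _
      | mul p q hp hq ihp ihq =>
        exact (map_mul f ⟨p, hp⟩ ⟨q, hq⟩).symm ▸ mul_mem ihp ihq
      | inv p hp ihp => exact (map_inv f ⟨p, hp⟩).symm ▸ inv_mem ihp
    · rw [← closure_TT, Subgroup.closure_le]
      intro u hu
      have huD : u ∈ DD := by obtain ⟨i, rfl⟩ := hu; exact dd_mem _
      have hm : y * (ι u : X) ∈ nb D d ∩ nb D y := ⟨(hS u huD).2 hu, C.mem F hy huD⟩
      exact ⟨⟨_, Subgroup.subset_closure hm⟩, by
        rw [hgen hm, ← C.eq_yv F hy huD, ι.symm_apply_apply]⟩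
  exact ⟨(MonoidHom.ofInjective hinj).trans (MulEquiv.subgroupCongr hr)⟩

/-- The type. -/
theorem type24 (hz : Stab G₀ D) (hne : D.Nonempty) :
    ∃ E : Set X, Cfsg.IsThreeTranspositionClass E ∧ Cfsg.IsOfTypeM24 X E := by
  obtain ⟨a, ha⟩ := hne
  refine ⟨D, ⟨three_set F hz, ⟨a, ha, ?_⟩, closure_top F hz ⟨a, ha⟩⟩, center_bot F ⟨a, ha⟩, ?_⟩
  · ext b
    refine ⟨fun hb => isConj_iff.2 (F.trans a ha b hb), fun hb => ?_⟩
    obtain ⟨g, rfl⟩ := isConj_iff.1 hb
    exact F.conj g a ha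
  obtain ⟨x, hx⟩ := F.exists_nb ha
  have an := F.symm ha hx
  obtain ⟨Q, hQ, hnQ⟩ := Classes.exists_noncomm (F.grp x hx.1) (F.prim x hx.1).1 (F.prim x hx.1).2.1
    (F.yv_mem hx.1 an)
  obtain ⟨d, hd, rfl⟩ := F.pre hx.1 hQ
  have hnc : ¬ Commute d a := fun h => hnQ ((F.yv_commute hx.1 an hd).2 h.symm)
  refine ⟨d, hd.1, a, ha, hnc, ?_, ?_⟩
  · show Cfsg.IsOfTypeM23 (Sd D d) (Dq D d)
    obtain ⟨e, he⟩ := local_iso F hd.1
    have h := GenA.Tower.type23 e.symm (El G₀ D d) (F.m23 d hd.1)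
    have hset : e.symm '' El G₀ D d = Dq D d := by
      rw [← he, Set.image_image]
      simp
    rwa [hset] at h
  · obtain ⟨e⟩ := pair_iso F ha hd.1 hnc (F.symm hx.1 hd) hx
    have hZL : Subgroup.center ↥LL = ⊥ :=
      (Subgroup.eq_bot_iff_forall _).2 fun v hv => Subtype.ext (eq_one_of_commute fun k =>
        (congrArg Subtype.val (Subgroup.mem_center_iff.1 hv ⟨xg k, xg_mem k⟩)).symm)
    set L := Subgroup.closure (nb D d ∩ nb D a)
    have hZ : Subgroup.center ↥L = ⊥ := by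
      rw [Subgroup.eq_bot_iff_forall]
      intro v hv
      have : e v ∈ Subgroup.center ↥LL := Subgroup.mem_center_iff.2 fun g => by
        obtain ⟨k, rfl⟩ := e.surjective g
        rw [← map_mul, ← map_mul, Subgroup.mem_center_iff.1 hv k]
      rw [hZL, Subgroup.mem_bot] at this
      exact e.map_eq_one_iff.1 this
    let E : ↥LL ≃* ↥L ⧸ Subgroup.center ↥L := e.symm.trans
      ((QuotientGroup.quotientBot (G := ↥L)).symm.trans (QuotientGroup.quotientMulEquivOfEq hZ.symm))
    have hN : (NL.map E.toMonoidHom).Normal := NL_normal.map _ E.surjective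
    haveI := hN
    obtain ⟨p⟩ := NL_equiv
    obtain ⟨q⟩ := quot_LL
    refine ⟨NL.map E.toMonoidHom, hN, ⟨(E.subgroupMap NL).symm.trans p⟩, ⟨?_⟩⟩
    exact (QuotientGroup.congr NL (NL.map E.toMonoidHom) E rfl).symm.trans q

end Cfsg.Agent.LargeExtra.AutFi24
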